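import Cfsg.Agent.Lib.OreSmall.Blocks
import Mathlib

/-!
The field with three elements: commutator factorisations with prescribed determinants, the polynomials
allowed, and the invariant chain of companion blocks.
-/

set_option autoImplicit false
set_option linter.unusedSectionVars false

namespace CfsgLib.OreSmallThree

open Matrix Polynomial CfsgLib.PSLCover CfsgLib.OreSmall

variable {F : Type*} [Field F] {ι κ : Type*} [Fintype ι] [DecidableEq ι] [Fintype κ] [DecidableEq κ]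

/-- The matrix of a commutator `s z s⁻¹ z⁻¹` with `P(s) = 0`, `det s = ε` and `det z = 1`. -/
def HasD (P : F[X]) (ε : F) (A : Matrix ι ι F) : Prop :=
  ∃ s z : GL ι F, ((s * z * s⁻¹ * z⁻¹ : GL ι F) : Matrix ι ι F) = A ∧ aeval (s : Matrix ι ι F) P = 0 ∧
    (s : Matrix ι ι F).det = ε ∧ (z : Matrix ι ι F).det = 1

/-- The quadratic of order eight (determinant `-1`). -/
noncomputable def qf : (ZMod 3)[X] := X ^ 2 + X + 2
/-- The quartic with even exponents (determinant `-1`). -/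
noncomputable def qe : (ZMod 3)[X] := X ^ 4 + X ^ 2 + 2
/-- The cubic of the certificates (determinant `1`). -/
noncomputable def cp : (ZMod 3)[X] := X ^ 3 + X ^ 2 + 2
/-- Its negative (determinant `-1`). -/
noncomputable def cm : (ZMod 3)[X] := X ^ 3 + 2 * X ^ 2 + 1

/-- The conclusion of the table of size four. -/
def Four (A : Matrix ι ι (ZMod 3)) : Prop := HasD (qf ^ 2) 1 A ∨ (A = -1 ∧ HasD qe (-1) A)

/-- The conclusion of the table of size five. -/
def Five (A : Matrix ι ι (ZMod 3)) : Prop := HasD (qf * cm) 1 A ∧ HasD (qf * cp) (-1) A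

/-- The conclusion of the table of size six. -/
def Six (A : Matrix ι ι (ZMod 3)) : Prop := HasD (cp * cm) (-1) A ∧ (A ≠ -1 → HasD (qf * qe) 1 A)

/-- The conclusion of the table of size seven, for at least five blocks. -/
def Seven (A : Matrix ι ι (ZMod 3)) : Prop := HasD (qf ^ 2 * cp) 1 A ∧ HasD (qf ^ 2 * cm) (-1) A

/-- The conclusion of the table of size eight, for at least six blocks. -/
def Eight (A : Matrix ι ι (ZMod 3)) : Prop :=
  if A = -1 then HasD (qe * qe) 1 A else HasD (qf * cp * cm) 1 A ∧ HasD (qf ^ 2 * qe) (-1) A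

/-- Consecutive blocks decrease in size and each annihilates the next one. -/
def Step (c b : Blk F) : Prop := b.1 ≤ c.1 ∧ aeval (PSLCover.comp b.2) (compPoly c.2) = 0

/-- An invariant chain of companion blocks. -/
def IsInv : List (Blk F) → Prop
  | [] => True
  | [_] => True
  | c :: b :: L => Step c b ∧ IsInv (b :: L)

theorem HasD.mono {P Q : F[X]} {ε : F} {A : Matrix ι ι F} (h : HasD P ε A) (hPQ : P ∣ Q) : HasD Q ε A := by
  obtain ⟨s, z, e, hs, h1, h2⟩ := h
  obtain ⟨R, rfl⟩ := hPQ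
  exact ⟨s, z, e, by rw [map_mul, hs, zero_mul], h1, h2⟩

theorem HasD.sum {P Q : F[X]} {ε η : F} {A : Matrix ι ι F} {B : Matrix κ κ F} (hA : HasD P ε A) (hB : HasD Q η B) :
    HasD (P * Q) (ε * η) (fromBlocks A 0 0 B) := by
  obtain ⟨s, z, e, hs, hd, hzd⟩ := hA
  obtain ⟨t, y, e', ht, hd', hyd⟩ := hB
  refine ⟨SpComm.glSum (s, t), SpComm.glSum (z, y), ?_, aeval_glSum hs ht, ?_, ?_⟩
  · rw [← map_inv, ← map_inv, ← map_mul, ← map_mul, ← map_mul, SpComm.coe_glSum]
    show fromBlocks ((s * z * s⁻¹ * z⁻¹ : GL ι F) : Matrix ι ι F) 0 0 ((t * y * t⁻¹ * y⁻¹ : GL κ F) : Matrix κ κ F) = _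
    rw [e, e']
  · rw [SpComm.coe_glSum, det_fromBlocks_zero₂₁, hd, hd']
  · rw [SpComm.coe_glSum, det_fromBlocks_zero₂₁, hzd, hyd, one_mul]

theorem HasD.conj {P : F[X]} {ε : F} {A : Matrix ι ι F} (c : GL ι F) (h : HasD P ε A) :
    HasD P ε ((c : Matrix ι ι F) * A * ((c⁻¹ : GL ι F) : Matrix ι ι F)) := by
  obtain ⟨s, z, e, hs, h1, h2⟩ := h
  have hd : ∀ u : GL ι F, ((c * u * c⁻¹ : GL ι F) : Matrix ι ι F).det = (u : Matrix ι ι F).det := fun u => by
    rw [Units.val_mul, Units.val_mul, det_mul, det_mul, mul_right_comm, ← det_mul, ← Units.val_mul,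
      mul_inv_cancel, Units.val_one, det_one, one_mul]
  refine ⟨c * s * c⁻¹, c * z * c⁻¹, ?_, aeval_conj_zero c s hs, (hd s).trans h1, (hd z).trans h2⟩
  rw [← e, ← Units.val_mul, ← Units.val_mul]
  congr 1
  group

theorem HasD.of_glSim {P : F[X]} {ε : F} {A B : Matrix ι ι F} (hs : GLSim A B) (h : HasD P ε A) : HasD P ε B := by
  obtain ⟨M, hM, e⟩ := hs
  let c : GL ι F := GeneralLinearGroup.mkOfDetNeZero M hM
  have hB : B = (c : Matrix ι ι F) * A * ((c⁻¹ : GL ι F) : Matrix ι ι F) := by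
    show B = M * A * ((c⁻¹ : GL ι F) : Matrix ι ι F)
    rw [e, Matrix.mul_assoc]
    show B = B * ((c : Matrix ι ι F) * ((c⁻¹ : GL ι F) : Matrix ι ι F))
    rw [← Units.val_mul, mul_inv_cancel, Units.val_one, Matrix.mul_one]
  exact hB ▸ h.conj c

theorem HasD.reindex {P : F[X]} {ε : F} {A : Matrix ι ι F} (h : HasD P ε A) (e : ι ≃ κ) :
    HasD P ε (A.reindex e e) := by
  obtain ⟨s, z, he, hs, h1, h2⟩ := h
  let r : Matrix ι ι F ≃ₐ[F] Matrix κ κ F := Matrix.reindexAlgEquiv F F e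
  let u : GL ι F →* GL κ F := Units.map r.toRingEquiv.toRingHom.toMonoidHom
  refine ⟨u s, u z, ?_, ?_, ?_, ?_⟩
  · rw [← map_inv u, ← map_inv u, ← map_mul, ← map_mul, ← map_mul, ← he]
    rfl
  · show aeval (r (s : Matrix ι ι F)) P = 0
    rw [aeval_algHom_apply r (s : Matrix ι ι F) P, hs, map_zero]
  · show ((s : Matrix ι ι F).reindex e e).det = ε
    rw [Matrix.det_reindex_self, h1]
  · show ((z : Matrix ι ι F).reindex e e).det = 1
    rw [Matrix.det_reindex_self, h2]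

theorem HasD.of_glSimE {P : F[X]} {ε : F} {A : Matrix ι ι F} {B : Matrix κ κ F} (hs : GLSimE A B) (h : HasD P ε A) :
    HasD P ε B := by
  obtain ⟨e, he⟩ := hs
  exact (h.reindex e).of_glSim he

theorem det_lowU (W : Matrix κ ι F) : (lowU W : Matrix (ι ⊕ κ) (ι ⊕ κ) F).det = 1 := by
  show (fromBlocks 1 0 W 1).det = 1
  rw [det_fromBlocks_zero₁₂, det_one, det_one, one_mul]

theorem det_inv_lowU (W : Matrix κ ι F) : (((lowU W)⁻¹ : GL (ι ⊕ κ) F) : Matrix (ι ⊕ κ) (ι ⊕ κ) F).det = 1 := by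
  show (fromBlocks 1 0 (-W) 1).det = 1
  rw [det_fromBlocks_zero₁₂, det_one, det_one, one_mul]

theorem det_uppU (V : Matrix ι κ F) : (uppU V : Matrix (ι ⊕ κ) (ι ⊕ κ) F).det = 1 := by
  show (fromBlocks 1 V 0 1).det = 1
  rw [det_fromBlocks_zero₂₁, det_one, det_one, one_mul]

/-- Gluing along a lower times upper block triangular product. -/
theorem HasD.lu {P Q : F[X]} {ε η : F} (hPQ : IsCoprime P Q) {A : Matrix ι ι F}
    {D : Matrix κ κ F} (hA : HasD P ε A) (hD : HasD Q η D) (X : Matrix κ ι F) (Y : Matrix ι κ F) :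
    HasD (P * Q) (ε * η) (fromBlocks A (A * Y) (X * A) (X * A * Y + D)) := by
  obtain ⟨s1, z1, e1, hs1, hd1, hzd1⟩ := hA
  obtain ⟨s2, z2, e2, hs2, hd2, hzd2⟩ := hD
  set t1 : GL ι F := z1 * s1⁻¹ * z1⁻¹ with htd1
  set t2 : GL κ F := z2 * s2⁻¹ * z2⁻¹ with htd2
  have hA' : A = (s1 : Matrix ι ι F) * t1 := by
    rw [← e1, ← Units.val_mul, htd1]; congr 1; group
  have hD' : D = (s2 : Matrix κ κ F) * t2 := by
    rw [← e2, ← Units.val_mul, htd2]; congr 1; group
  obtain ⟨W, hW⟩ : ∃ W : Matrix κ ι F, W * (s1 : Matrix ι ι F) - (s2 : Matrix κ κ F) * W = X * (s1 : Matrix ι ι F) := by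
    let φ : Matrix κ ι F →ₗ[F] Matrix κ ι F :=
      { toFun := fun W => W * (s1 : Matrix ι ι F) - (s2 : Matrix κ κ F) * W
        map_add' := fun a b => by rw [Matrix.add_mul, Matrix.mul_add]; abel
        map_smul' := fun c a => by simp [Matrix.smul_mul, Matrix.mul_smul, smul_sub] }
    have hφ : Function.Injective φ := (injective_iff_map_eq_zero φ).2 fun W hW =>
      intertwine_zero hPQ hs1 hs2 (sub_eq_zero.1 hW).symm
    exact LinearMap.surjective_of_injective hφ (X * (s1 : Matrix ι ι F))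
  obtain ⟨V, hV⟩ : ∃ V : Matrix ι κ F, V * (t2 : Matrix κ κ F) - (t1 : Matrix ι ι F) * V = (t1 : Matrix ι ι F) * Y := by
    let φ : Matrix ι κ F →ₗ[F] Matrix ι κ F :=
      { toFun := fun V => V * (t2 : Matrix κ κ F) - (t1 : Matrix ι ι F) * V
        map_add' := fun a b => by rw [Matrix.add_mul, Matrix.mul_add]; abel
        map_smul' := fun c a => by simp [Matrix.smul_mul, Matrix.mul_smul, smul_sub] }
    have hφ : Function.Injective φ := (injective_iff_map_eq_zero φ).2 fun V hV => by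
      have hV' : V * (t2 : Matrix κ κ F) = (t1 : Matrix ι ι F) * V := sub_eq_zero.1 hV
      set U : Matrix ι κ F := ((z1⁻¹ : GL ι F) : Matrix ι ι F) * V * (z2 : Matrix κ κ F)
      have hU : U = 0 := by
        refine intertwine_zero hPQ.symm hs2 hs1 ?_
        have p2 : (t2 : Matrix κ κ F) * ((z2 : Matrix κ κ F) * (s2 : Matrix κ κ F)) = (z2 : Matrix κ κ F) := by
          rw [← Units.val_mul, ← Units.val_mul, show t2 * (z2 * s2) = z2 by rw [htd2]; group]
        have p1 : (s1 : Matrix ι ι F) * ((z1⁻¹ : GL ι F) : Matrix ι ι F) * (t1 : Matrix ι ι F) =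
            ((z1⁻¹ : GL ι F) : Matrix ι ι F) := by
          rw [← Units.val_mul, ← Units.val_mul, show s1 * z1⁻¹ * t1 = z1⁻¹ by rw [htd1]; group]
        calc (s1 : Matrix ι ι F) * U = (s1 : Matrix ι ι F) * ((z1⁻¹ : GL ι F) : Matrix ι ι F) *
              (V * (t2 : Matrix κ κ F)) * ((z2 : Matrix κ κ F) * (s2 : Matrix κ κ F)) := by
              conv_lhs => rw [show U = ((z1⁻¹ : GL ι F) : Matrix ι ι F) * V * (z2 : Matrix κ κ F) from rfl, ← p2]
              simp only [Matrix.mul_assoc]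
          _ = U * (s2 : Matrix κ κ F) := by
              rw [hV', ← Matrix.mul_assoc _ (t1 : Matrix ι ι F) V, p1]
              simp only [U, Matrix.mul_assoc]
      calc V = ((z1 * z1⁻¹ : GL ι F) : Matrix ι ι F) * V * ((z2 * z2⁻¹ : GL κ F) : Matrix κ κ F) := by
            rw [mul_inv_cancel, mul_inv_cancel, Units.val_one, Units.val_one, Matrix.one_mul, Matrix.mul_one]
        _ = (z1 : Matrix ι ι F) * U * ((z2⁻¹ : GL κ F) : Matrix κ κ F) := by
            simp only [Units.val_mul, U, Matrix.mul_assoc]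
        _ = 0 := by rw [hU, Matrix.mul_zero, Matrix.zero_mul]
    exact LinearMap.surjective_of_injective hφ ((t1 : Matrix ι ι F) * Y)
  set S : GL (ι ⊕ κ) F := lowU W * SpComm.glSum (s1, s2) * (lowU W)⁻¹ with hS
  set Z : GL (ι ⊕ κ) F := uppU V * SpComm.glSum (z1, z2) * (lowU W)⁻¹ with hZ
  have hSv : (S : Matrix (ι ⊕ κ) (ι ⊕ κ) F) = fromBlocks (s1 : Matrix ι ι F) 0 (X * (s1 : Matrix ι ι F)) (s2 : Matrix κ κ F) := by
    rw [hS, Units.val_mul, Units.val_mul, SpComm.coe_glSum]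
    show fromBlocks 1 0 W 1 * fromBlocks _ 0 0 _ * fromBlocks 1 0 (-W) 1 = _
    simp only [fromBlocks_multiply, Matrix.one_mul, Matrix.mul_one, Matrix.zero_mul, Matrix.mul_zero, add_zero,
      zero_add, Matrix.mul_neg, ← hW, Matrix.neg_mul, neg_zero, sub_eq_add_neg]
  have hTv : ((Z * S⁻¹ * Z⁻¹ : GL (ι ⊕ κ) F) : Matrix (ι ⊕ κ) (ι ⊕ κ) F) =
      fromBlocks (t1 : Matrix ι ι F) ((t1 : Matrix ι ι F) * Y) 0 (t2 : Matrix κ κ F) := by
    rw [show Z * S⁻¹ * Z⁻¹ = uppU V * SpComm.glSum (t1, t2) * (uppU V)⁻¹ by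
      rw [hZ, hS, htd1, htd2, show SpComm.glSum (z1 * s1⁻¹ * z1⁻¹, z2 * s2⁻¹ * z2⁻¹) =
        SpComm.glSum (z1, z2) * (SpComm.glSum (s1, s2))⁻¹ * (SpComm.glSum (z1, z2))⁻¹ by
          rw [← map_inv, ← map_inv, ← map_mul, ← map_mul]; rfl]
      group, Units.val_mul, Units.val_mul, SpComm.coe_glSum]
    show fromBlocks 1 V 0 1 * fromBlocks _ 0 0 _ * fromBlocks 1 (-V) 0 1 = _
    simp only [fromBlocks_multiply, Matrix.one_mul, Matrix.mul_one, Matrix.zero_mul, Matrix.mul_zero, add_zero,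
      zero_add, Matrix.mul_neg, ← hV, Matrix.neg_mul, neg_zero, sub_eq_add_neg]
    congr 1
    abel
  refine ⟨S, Z, ?_, ?_, ?_, ?_⟩
  · rw [show S * Z * S⁻¹ * Z⁻¹ = S * (Z * S⁻¹ * Z⁻¹) by group, Units.val_mul, hSv, hTv, fromBlocks_multiply,
      hA', hD']
    simp only [Matrix.mul_assoc, Matrix.mul_zero, Matrix.zero_mul, add_zero]
  · rw [hS]
    exact aeval_conj_zero _ _ (aeval_glSum hs1 hs2)
  · rw [hS, Units.val_mul, Units.val_mul, SpComm.coe_glSum, det_mul, det_mul, det_fromBlocks_zero₂₁, hd1, hd2,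
      det_lowU, det_inv_lowU, one_mul, mul_one]
  · rw [hZ, Units.val_mul, Units.val_mul, SpComm.coe_glSum, det_mul, det_mul, det_fromBlocks_zero₂₁, hzd1, hzd2,
      det_uppU, det_inv_lowU, one_mul, mul_one, mul_one]


end CfsgLib.OreSmallThree
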