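import Cfsg.Agent.Lib.OreSmallThree.Basic
import Cfsg.Agent.Lib.PSLCover.DetFullLemmas

/-!
The invariant chain of companion blocks: existence, equal sizes give equal blocks, reordering and splitting.
-/

set_option autoImplicit false
set_option linter.unusedSectionVars false

namespace CfsgLib.OreSmallThree

open Matrix Polynomial CfsgLib.PSLCover CfsgLib.OreSmall

variable {F : Type*} [Field F] {ι κ : Type*} [Fintype ι] [DecidableEq ι] [Fintype κ] [DecidableEq κ]

theorem det_eq_of_sim {x : Matrix ι ι F} {y : Matrix κ κ F} (h : GLSimE x y) : x.det = y.det := by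
  obtain ⟨e, he⟩ := h
  rw [← he.det_eq, Matrix.det_reindex_self]

/-- The determinant of a block. -/
def blockDet (c : Blk F) : F := (PSLCover.comp c.2).det

theorem det_bdg : ∀ L : List (Blk F), (bdg L).det = (L.map blockDet).prod
  | [] => by
    haveI : IsEmpty (Fin (size ([] : List (Blk F)))) := inferInstanceAs (IsEmpty (Fin 0))
    rw [Matrix.det_isEmpty, List.map_nil, List.prod_nil]
  | c :: L => by
    rw [det_eq_of_sim (bdg_cons c L), det_fromBlocks_zero₂₁, det_bdg L]
    rfl

theorem exists_inv : ∀ {n : ℕ} (x : Matrix (Fin n) (Fin n) F), ∃ L, GLSimE x (bdg L) ∧ IsInv L := by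
  intro n
  induction n using Nat.strong_induction_on with
  | _ n ih =>
    intro x
    rcases Nat.eq_zero_or_pos n with rfl | hn
    · exact ⟨[], ⟨Equiv.refl _, 1, by simp, Matrix.ext fun i => Fin.elim0 i⟩, trivial⟩
    haveI : Nonempty (Fin n) := ⟨⟨0, hn⟩⟩
    obtain ⟨d, m, a, x2, h, hann⟩ := exists_split_cyclic x
    have hc := h.card
    simp only [Fintype.card_fin, Fintype.card_sum] at hc
    obtain ⟨L, hL, hI⟩ := ih m (by omega) x2
    refine ⟨⟨d, a⟩ :: L, (h.trans (GLSimE.fromBlocks_right (PSLCover.comp a) hL)).trans (bdg_cons ⟨d, a⟩ L).symm, ?_⟩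
    rcases L with _ | ⟨⟨e, b⟩, L⟩
    · exact trivial
    refine ⟨?_, hI⟩
    have h0 := (hL.trans (bdg_cons ⟨e, b⟩ L)).aeval_eq_zero hann
    rw [aeval_fromBlocks] at h0
    have hb : aeval (PSLCover.comp b) (compPoly a) = 0 := by
      ext i j
      simpa using congrFun (congrFun h0 (Sum.inl i)) (Sum.inl j)
    refine ⟨?_, hb⟩
    show e ≤ d
    by_contra hlt
    refine (compPoly_monic a).ne_zero (aeval_comp_small b ?_ (by rw [hb, Matrix.zero_mulVec]))
    rw [compPoly_natDegree]
    omega

theorem compPoly_coeff {d : ℕ} (a : Fin (d + 1) → F) (i : Fin (d + 1)) : (compPoly a).coeff i = -a i := by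
  have hi : (i : ℕ) ≠ d + 1 := i.isLt.ne
  simp [compPoly, Polynomial.finsetSum_coeff, Polynomial.coeff_C_mul_X_pow, Polynomial.coeff_X_pow, hi, Fin.val_inj]

theorem Step.eq_of_size_eq {c b : Blk F} (h : Step c b) (he : b.1 = c.1) : b = c := by
  obtain ⟨d, a⟩ := c
  obtain ⟨e, a'⟩ := b
  obtain rfl : e = d := he
  have := compPoly_unique a' (compPoly_monic a) (compPoly_natDegree a) h.2
  congr 1
  funext i
  have := congrArg (fun p : F[X] => p.coeff i) this
  simp only [compPoly_coeff, neg_inj] at this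
  exact this.symm

/-- Later blocks are smaller, or equal to the earlier ones of the same size. -/
theorem IsInv.pairwise : ∀ {L : List (Blk F)}, IsInv L →
    L.Pairwise fun c b => b.1 ≤ c.1 ∧ (b.1 = c.1 → b = c)
  | [], _ => List.Pairwise.nil
  | [c], _ => List.pairwise_singleton _ c
  | c :: b :: L, ⟨h, hL⟩ => by
    have hp := IsInv.pairwise hL
    refine List.Pairwise.cons ?_ hp
    intro e he
    rcases List.mem_cons.1 he with rfl | he
    · exact ⟨h.1, h.eq_of_size_eq⟩
    · obtain ⟨h1, h2⟩ := List.rel_of_pairwise_cons hp he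
      refine ⟨h1.trans h.1, fun heq => ?_⟩
      have hb : b.1 = c.1 := le_antisymm h.1 (heq ▸ h1)
      rw [h2 (heq.trans hb.symm), h.eq_of_size_eq hb]

theorem IsInv.eq_of_mem {L : List (Blk F)} (h : IsInv L) {c b : Blk F} (hc : c ∈ L) (hb : b ∈ L)
    (he : b.1 = c.1) : b = c := by
  have : Std.Symm fun c b : Blk F => b.1 = c.1 → b = c := ⟨fun x y hxy he => (hxy he.symm).symm⟩
  rcases eq_or_ne b c with h0 | h0
  · exact h0
  · exact (h.pairwise.imp fun hR => hR.2).forall hc hb h0.symm he

theorem IsInv.head_max {c : Blk F} {L : List (Blk F)} (h : IsInv (c :: L)) {b : Blk F} (hb : b ∈ L) : b.1 ≤ c.1 :=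
  (List.rel_of_pairwise_cons h.pairwise hb).1

theorem bdg_perm {L L' : List (Blk F)} (h : L.Perm L') : GLSimE (bdg L) (bdg L') := by
  induction h with
  | nil => exact GLSimE.refl _
  | cons c _ ih => exact (bdg_cons _ _).trans ((GLSimE.fromBlocks_right _ ih).trans (bdg_cons _ _).symm)
  | swap c e L => exact exists_front [e] c L
  | trans _ _ h1 h2 => exact h1.trans h2

theorem bdg_append : ∀ I L : List (Blk F), GLSimE (bdg (I ++ L)) (fromBlocks (bdg I) 0 0 (bdg L))
  | [], L => by
    haveI : IsEmpty (Fin (size ([] : List (Blk F)))) := inferInstanceAs (IsEmpty (Fin 0))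
    exact ((glSimE_fromBlocks_comm _ _).trans (glSimE_fromBlocks_empty _ _)).symm
  | c :: I, L => (bdg_cons c (I ++ L)).trans ((GLSimE.fromBlocks_right _ (bdg_append I L)).trans
      ((glSimE_fromBlocks_assoc _ _ _).symm.trans ((bdg_cons c I).symm.fromBlocks (GLSimE.refl _))))

theorem size_eq_sum : ∀ L : List (Blk F), size L = (L.map fun c => c.1 + 1).sum
  | [] => rfl
  | c :: L => by simp [size, size_eq_sum L]

theorem size_append_eq (I L : List (Blk F)) : size (I ++ L) = size I + size L := by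
  simp [size_eq_sum]

theorem size_perm {L L' : List (Blk F)} (h : L.Perm L') : size L = size L' := by
  simp only [size_eq_sum]
  exact (h.map _).sum_eq

theorem nonscalar_of_mem {L : List (Blk F)} {c : Blk F} (hc : c ∈ L) (hd : 1 ≤ c.1) (l : F) :
    bdg L ≠ l • 1 := by
  intro h
  classical
  obtain ⟨L', hp⟩ : ∃ L', L.Perm (c :: L') := ⟨L.erase c, List.perm_cons_erase hc⟩
  have h1 : GLSimE (fromBlocks (PSLCover.comp c.2) 0 0 (bdg L')) (l • (1 : Matrix (Fin (size L)) (Fin (size L)) F)) :=
    h ▸ ((bdg_perm hp).trans (bdg_cons c L')).symm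
  have h2 := eq_smul_one_of_glSimE h1
  have h3 := congrFun (congrFun h2 (Sum.inl ⟨1, by omega⟩)) (Sum.inl ⟨0, by omega⟩)
  rw [fromBlocks_apply₁₁, comp_lt c.2 (fun e => by simp [Fin.ext_iff] at e; omega)] at h3
  simp at h3

theorem bdg_scalar : ∀ (L : List (Blk F)) (a : F), (∀ c ∈ L, c = ⟨0, fun _ => a⟩) →
    bdg L = a • 1
  | [], a, _ => Matrix.ext fun i => Fin.elim0 i
  | c :: L, a, h => by
    obtain rfl := h c List.mem_cons_self
    refine eq_smul_one_of_glSimE (κ := Fin (0 + 1) ⊕ Fin (size L)) ?_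
    have := bdg_cons (⟨0, fun _ => a⟩ : Blk F) L
    rw [bdg_scalar L a fun c hc => h c (List.mem_cons_of_mem _ hc), comp_zero_eq] at this
    simpa [← Matrix.fromBlocks_one, Matrix.fromBlocks_smul] using this

theorem IsInv.head_big {c : Blk F} {L : List (Blk F)} (h : IsInv (c :: L)) (hns : ∀ a : F, bdg (c :: L) ≠ a • 1) :
    1 ≤ c.1 := by
  by_contra h0
  refine hns (c.2 0) (bdg_scalar _ _ fun b hb => ?_)
  have hbc : b = c := h.eq_of_mem List.mem_cons_self hb (by
    rcases List.mem_cons.1 hb with rfl | hb'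
    · rfl
    · have := h.head_max hb'; omega)
  subst hbc
  obtain ⟨d, a⟩ := b
  obtain rfl : d = 0 := by simpa using h0
  congr 1
  funext i
  obtain rfl : i = 0 := Fin.ext (by have := i.isLt; simp at this; simpa using this)
  rfl

end CfsgLib.OreSmallThree
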