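import Cfsg.Agent.Lib.OreSmallThree.Head
import Cfsg.Agent.Lib.OreLevi.OrthLarge

/-!
Transport of a factorisation over `ZMod 3` with a selected polynomial to a field with three elements, in the
shape used for the orthogonal groups.
-/

set_option autoImplicit false
set_option linter.unusedSectionVars false

namespace CfsgLib.OreSmallThree

open Matrix Polynomial CfsgLib.OreLevi.OrthPlus

/-- Over a field with three elements, from the factorisation over `ZMod 3`. -/
theorem exists_fac_of_hasD {F : Type*} [Field F] (hq : Nat.card F = 3) {n : ℕ} (A : Matrix (Fin n) (Fin n) F)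
    (hdet : A.det = 1) (hA : CfsgLib.ClassSquare.Nonscalar A)
    (h0 : ∀ A0 : Matrix (Fin n) (Fin n) (ZMod 3), A0.det = 1 → (∀ c : ZMod 3, A0 ≠ c • 1) →
      ∃ P, Sel P ∧ HasD P 1 A0) :
    ∃ s z : GL (Fin n) F,
      A = (s : Matrix (Fin n) (Fin n) F) * z * (s⁻¹ : GL (Fin n) F) * (z⁻¹ : GL (Fin n) F) ∧
        IsSquare (s : Matrix (Fin n) (Fin n) F).det ∧ IsSquare (z : Matrix (Fin n) (Fin n) F).det ∧
        TwistFree (s : Matrix (Fin n) (Fin n) F) ∧ ∀ l : Matrix (Fin 2) (Fin n) F,
          (l = l * (s : Matrix (Fin n) (Fin n) F) ∨ l * (s : Matrix (Fin n) (Fin n) F)ᵀ = l) → l = 0 := by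
  haveI : Finite F := Nat.finite_of_card_ne_zero (by omega)
  haveI := Fintype.ofFinite F
  let e : ZMod 3 ≃+* F := ZMod.ringEquivOfPrime F Nat.prime_three (by rw [← Nat.card_eq_fintype_card, hq])
  let φ : ZMod 3 →+* F := e.toRingHom
  let r : Matrix (Fin n) (Fin n) (ZMod 3) ≃+* Matrix (Fin n) (Fin n) F := e.mapMatrix
  obtain ⟨A0, rfl⟩ := r.surjective A
  obtain ⟨P, hP, s, z, he, hs, hsd, hzd⟩ := h0 A0 (e.injective (by
    rw [map_one]; exact (φ.map_det A0).trans hdet)) (fun c hc => hA (φ c) (by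
      ext i j; simp [hc, r, φ, Matrix.one_apply, apply_ite e]))
  let u : GL (Fin n) (ZMod 3) →* GL (Fin n) F := Units.map r.toRingHom.toMonoidHom
  have hdetu : ∀ g : GL (Fin n) (ZMod 3), (g : Matrix (Fin n) (Fin n) (ZMod 3)).det = 1 →
      IsSquare ((u g : GL (Fin n) F) : Matrix (Fin n) (Fin n) F).det := fun g hg => by
    have e1 : (φ.mapMatrix (g : Matrix (Fin n) (Fin n) (ZMod 3))).det = 1 := by rw [← RingHom.map_det, hg, map_one]
    exact (show ((u g : GL (Fin n) F) : Matrix (Fin n) (Fin n) F).det = 1 from e1) ▸ IsSquare.one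
  have hg : CfsgLib.SpComm.Good (P.map φ) := by
    have hrev : (P.map φ).reverse = P.reverse.map φ := by
      rw [Polynomial.reverse, Polynomial.reverse, natDegree_map_eq_of_injective φ.injective, reflect_map]
    unfold CfsgLib.SpComm.Good
    rw [hrev]
    exact hP.good.map (Polynomial.mapRingHom φ)
  have hk : aeval ((u s : GL (Fin n) F) : Matrix (Fin n) (Fin n) F) (P.map φ) = 0 := by
    have h := Polynomial.map_aeval_eq_aeval_map (φ := φ) (ψ := φ.mapMatrix) (by
      ext c i j
      simp [Matrix.algebraMap_matrix_apply, apply_ite φ]) P (s : Matrix (Fin n) (Fin n) (ZMod 3))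
    rw [hs, map_zero] at h
    exact h.symm
  refine ⟨u s, u z, ?_, hdetu s hsd, hdetu z hzd, twistFree_of_good hg hk, fun _ h => no_fix_both hg hk h⟩
  rw [← map_inv u, ← map_inv u, ← Units.val_mul, ← Units.val_mul, ← Units.val_mul, ← map_mul, ← map_mul, ← map_mul]
  show r A0 = r _
  rw [he]

end CfsgLib.OreSmallThree
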