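import Cfsg.Agent.Lib.OreSmallThree.HeadSmall

/-!
The heads over three elements: for every size at least three and both signs a cyclic commutator whose first
factor has an irreducible polynomial, the coprimalities of these polynomials, and the products of them that
occur (no two roots of product one).
-/

set_option autoImplicit false
set_option linter.unusedSectionVars false

namespace CfsgLib.OreSmallThree

open Matrix Polynomial CfsgLib.PSLCover
open CfsgLib.SpComm (Good reverse_reverse' aeval_reflect)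

local notation "R3" => Polynomial (ZMod 3)

/-- Coprimality with a reciprocal is symmetric. -/
theorem cop_symm {K : Type*} [Field K] {P Q : K[X]} (hP : P.coeff 0 ≠ 0) (hQ : Q.coeff 0 ≠ 0)
    (h : IsCoprime P Q.reverse) : IsCoprime Q P.reverse := by
  refine isCoprime_of_irreducible_dvd (fun hz => hQ (by rw [hz.1, coeff_zero])) fun d hd hdQ hdP => ?_
  have hd0 : d.coeff 0 ≠ 0 := fun e => hQ (by
    obtain ⟨r, rfl⟩ := hdQ; rw [mul_coeff_zero, e, zero_mul])
  have h1 : d.reverse ∣ Q.reverse := by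
    obtain ⟨r, rfl⟩ := hdQ; exact ⟨r.reverse, reverse_mul_of_domain d r⟩
  have h2 : d.reverse ∣ P := by
    obtain ⟨r, hr⟩ := hdP
    exact ⟨r.reverse, by rw [← reverse_mul_of_domain, ← hr, reverse_reverse' hP]⟩
  have h3 := natDegree_eq_zero_of_isUnit (h.isUnit_of_dvd' h2 h1)
  rw [Polynomial.reverse_natDegree, natTrailingDegree_eq_zero.2 (Or.inr hd0), Nat.sub_zero] at h3
  exact absurd h3 hd.natDegree_pos.ne'

theorem natDegree_reverse_of_coeff {K : Type*} [Field K] {P : K[X]} (h : P.coeff 0 ≠ 0) :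
    P.reverse.natDegree = P.natDegree := by
  rw [Polynomial.reverse_natDegree, natTrailingDegree_eq_zero.2 (Or.inr h), Nat.sub_zero]

/-- What is used of a head of size `a` and determinant `ε`. -/
structure IsHead (a : ℕ) (ε : ZMod 3) (P : R3) : Prop where
  irr : Irreducible P
  monic : P.Monic
  deg : P.natDegree = a
  coeff : P.coeff 0 = (-1) ^ a * ε
  good : Good P
  four : a = 4 → ¬ P ∣ qe ∧ ¬ P ∣ qe.reverse
  spec : ∃ (A : Matrix (Fin a) (Fin a) (ZMod 3)) (w : Fin a → ZMod 3),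
    HasD P ε A ∧ IsCyclicVec A w ∧ A.det = 1

section Field

variable {a : ℕ} {K : Type} [Field K] [Finite K] [Algebra (ZMod 3) K]

/-- An element outside all proper subfields has degree `a`. -/
theorem deg_eq (hfin : Module.finrank (ZMod 3) K = a) (ha : a ≠ 0) (u : Kˣ) (h : ∀ d, 0 < d → 2 * d ≤ a → u ^ (3 ^ d - 1) ≠ 1) :
    (minpoly (ZMod 3) (u : K)).natDegree = a := by
  have hint : IsIntegral (ZMod 3) (u : K) := Algebra.IsIntegral.isIntegral _
  let E := IntermediateField.adjoin (ZMod 3) {(u : K)}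
  have hE : Module.finrank (ZMod 3) E = (minpoly (ZMod 3) (u : K)).natDegree :=
    IntermediateField.adjoin.finrank hint
  set d := (minpoly (ZMod 3) (u : K)).natDegree
  have hdvd : d ∣ a := by
    have := Module.finrank_mul_finrank (ZMod 3) E K
    rw [hE, hfin] at this
    exact Dvd.intro _ this
  by_contra hne
  have hd0 : 0 < d := minpoly.natDegree_pos hint
  have h2 : 2 * d ≤ a := by
    obtain ⟨k, hk⟩ := hdvd
    rcases k with _ | _ | k
    · exact absurd hk (by simpa using ha)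
    · exact absurd hk.symm (by simpa using hne)
    · rw [hk, Nat.mul_comm 2]; exact Nat.mul_le_mul_left _ (by omega)
  refine h d hd0 h2 (Units.ext ?_)
  haveI : Finite E := Module.finite_of_finite (ZMod 3)
  haveI := Fintype.ofFinite E
  have hc : Fintype.card E = 3 ^ d := by
    rw [← Nat.card_eq_fintype_card, Module.natCard_eq_pow_finrank (K := ZMod 3), hE, Nat.card_zmod]
  let x : E := ⟨(u : K), IntermediateField.mem_adjoin_simple_self _ _⟩
  have hx := FiniteField.pow_card_sub_one_eq_one x (fun e => u.ne_zero (congrArg Subtype.val e))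
  rw [hc] at hx
  simpa [x] using congrArg Subtype.val hx

theorem cyclicVec_leftMul (b : Module.Basis (Fin a) (ZMod 3) K) {x : K}
    (hx : (minpoly (ZMod 3) x).natDegree = a) :
    IsCyclicVec (Algebra.leftMulMatrix b x) (b.equivFun 1) := by
  intro f hf hfv
  by_contra h0
  have e : aeval x f = 0 := by
    rw [aeval_algHom_apply] at hfv
    have hm : Algebra.leftMulMatrix b (aeval x f) *ᵥ b.equivFun 1 = b.equivFun (aeval x f * 1) := by
      funext i
      exact congrFun (Algebra.leftMulMatrix_mulVec_repr b (aeval x f) 1) i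
    rw [hm, mul_one, LinearEquiv.map_eq_zero_iff] at hfv
    exact hfv
  have h1 := natDegree_le_of_dvd (minpoly.dvd _ _ e) h0
  rw [hx] at h1
  exact (leadingCoeff_ne_zero.2 h0) (hf _ h1)

end Field

theorem exists_isHead {a : ℕ} (ha : 4 ≤ a) {ε : ZMod 3} (hε : ε = 1 ∨ ε = -1) : ∃ P : R3, IsHead a ε P := by
  classical
  let K := GaloisField 3 a
  have hfin : Module.finrank (ZMod 3) K = a := GaloisField.finrank 3 (by omega)
  obtain ⟨g, hg⟩ := IsCyclic.exists_generator (α := Kˣ)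
  have hcard : Nat.card K = 3 ^ a := GaloisField.card 3 a (by omega)
  letI : Fintype K := Fintype.ofFinite K
  let frob : K ≃ₐ[ZMod 3] K := FiniteField.frobeniusAlgEquivOfAlgebraic (ZMod 3) K
  have hfrob : ∀ (i : ℕ) (x : K), (frob ^ i) x = x ^ (3 ^ i) := fun i x => by
    rw [AlgEquiv.coe_pow, FiniteField.coe_frobeniusAlgEquivOfAlgebraic_iterate, ZMod.card]
  have hord : orderOf g = 3 ^ a - 1 := by
    rw [orderOf_eq_card_of_forall_mem_zpowers hg, Nat.card_units, hcard]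
  have hpow : ∀ m : ℕ, 0 < m → m < 3 ^ a - 1 → g ^ m ≠ 1 := fun m h0 hm e => by
    have := Nat.le_of_dvd h0 (orderOf_dvd_of_pow_eq_one e)
    omega
  -- the norm of the generator
  have hN : Algebra.norm (ZMod 3) (g : K) = -1 := by
    have hv : ∀ x : ZMod 3, x = 0 ∨ x = 1 ∨ x = -1 := by decide
    rcases hv (Algebra.norm (ZMod 3) (g : K)) with h | h | h
    · exact absurd (Algebra.norm_eq_zero_iff.1 h) g.ne_zero
    · exfalso
      obtain ⟨y, hy⟩ := FiniteField.norm_surjective (ZMod 3) K (-1)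
      have hy0 : y ≠ 0 := fun e => by rw [e, Algebra.norm_zero] at hy; exact absurd hy (by decide)
      obtain ⟨i, hi⟩ := (Submonoid.mem_powers_iff _ _).1 (mem_powers_iff_mem_zpowers.2 (hg (Units.mk0 y hy0)))
      have : y = (g : K) ^ i := by rw [← Units.val_pow_eq_pow_val, hi]; rfl
      rw [this, map_pow, h, one_pow] at hy
      exact absurd hy (by decide)
    · exact h
  obtain ⟨k, hk, hkε⟩ : ∃ k : ℕ, (k = 1 ∨ k = 2) ∧ (-1 : ZMod 3) ^ k = ε := by
    rcases hε with rfl | rfl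
    · exact ⟨2, Or.inr rfl, by norm_num⟩
    · exact ⟨1, Or.inl rfl, pow_one _⟩
  set μ : Kˣ := g ^ k with hμ
  have hsmall : ∀ m d : ℕ, m ≤ 4 → 2 * d ≤ a → m * (3 ^ d - 1) < 3 ^ a - 1 := fun m d hm hd => by
    have h1 : 3 ^ (d + 2) ≤ 3 ^ a := Nat.pow_le_pow_right (by omega) (by omega)
    rw [pow_add] at h1
    have h2 : m * (3 ^ d - 1) ≤ 4 * (3 ^ d - 1) := Nat.mul_le_mul_right _ hm
    have : 1 ≤ 3 ^ d := Nat.one_le_pow _ _ (by omega)
    omega
  have hdeg : ∀ m : ℕ, (0 < m ∧ m ≤ 4) → ∀ d, 0 < d → 2 * d ≤ a → (g ^ m) ^ (3 ^ d - 1) ≠ 1 :=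
    fun m hm d hd hda => by
      rw [← pow_mul]
      refine hpow _ (Nat.mul_pos hm.1 ?_) (hsmall m d hm.2 hda)
      have : 3 ^ 1 ≤ 3 ^ d := Nat.pow_le_pow_right (by omega) hd
      omega
  have hμdeg : (minpoly (ZMod 3) (μ : K)).natDegree = a := deg_eq hfin (by omega) μ (hdeg k (by omega))
  have hAdeg : (minpoly (ZMod 3) (((μ ^ 2)⁻¹ : Kˣ) : K)).natDegree = a := deg_eq hfin (by omega) _ fun d hd hda e => by
    rw [inv_pow, inv_eq_one, hμ, ← pow_mul g k 2] at e
    exact hdeg (k * 2) (by omega) d hd hda e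
  set P := minpoly (ZMod 3) (μ : K) with hP
  have hint : IsIntegral (ZMod 3) (μ : K) := Algebra.IsIntegral.isIntegral _
  have hirr : Irreducible P := minpoly.irreducible hint
  let b : Module.Basis (Fin a) (ZMod 3) K :=
    Module.finBasisOfFinrankEq _ K hfin
  let L : K →ₐ[ZMod 3] Matrix (Fin a) (Fin a) (ZMod 3) := Algebra.leftMulMatrix b
  let s : GL (Fin a) (ZMod 3) := Units.map L.toMonoidHom μ
  have hsv : (s : Matrix (Fin a) (Fin a) (ZMod 3)) = L (μ : K) := rfl
  have hsP : aeval (s : Matrix (Fin a) (Fin a) (ZMod 3)) P = 0 := by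
    rw [hsv, aeval_algHom_apply, minpoly.aeval, map_zero]
  have hnorm : ∀ x : K, (L x).det = Algebra.norm (ZMod 3) x := fun x => (Algebra.norm_eq_matrix_det b x).symm
  have hsdet : (s : Matrix (Fin a) (Fin a) (ZMod 3)).det = ε := by
    rw [hsv, hnorm, hμ, Units.val_pow_eq_pow_val, map_pow, hN, hkε]
  have hchar : (L (μ : K)).charpoly = P :=
    (cyclicVec_leftMul b hμdeg).charpoly_eq (minpoly.monic hint) hμdeg (by
      rw [aeval_algHom_apply, minpoly.aeval, map_zero, Matrix.zero_mulVec])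
  refine ⟨P, hirr, minpoly.monic hint, hμdeg, ?_, ?_, ?_, ?_⟩
  · have h := Matrix.det_eq_sign_charpoly_coeff (L (μ : K))
    rw [hchar, Fintype.card_fin] at h
    rw [← hsdet, hsv, h, ← mul_assoc, ← pow_add, ← two_mul, pow_mul, neg_one_sq, one_pow, one_mul]
  · -- no two roots of product one
    refine hirr.coprime_iff_not_dvd.2 fun hdvd => ?_
    have h0 : aeval (μ : K) P.reverse = 0 := by
      obtain ⟨c, hc⟩ := hdvd
      rw [hc, map_mul, minpoly.aeval, zero_mul]
    rw [Polynomial.reverse, aeval_reflect μ _ P le_rfl, mul_eq_zero] at h0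
    have h1 : aeval ((μ⁻¹ : Kˣ) : K) P = 0 := h0.resolve_left (pow_ne_zero _ μ.ne_zero)
    have hmin : minpoly (ZMod 3) ((μ⁻¹ : Kˣ) : K) = P :=
      (minpoly.eq_of_irreducible_of_monic hirr h1 (minpoly.monic hint)).symm
    have : IsGalois (ZMod 3) K := inferInstance
    obtain ⟨σ, hσ⟩ := Normal.minpoly_eq_iff_mem_orbit (F := ZMod 3) (E := K) |>.1 hmin
    obtain ⟨⟨i, hi⟩, rfl⟩ := (FiniteField.bijective_frobeniusAlgEquivOfAlgebraic_pow (ZMod 3) K).2 σ
    rw [hfin] at hi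
    replace hσ : (frob ^ i) (μ : K) = ((μ⁻¹ : Kˣ) : K) := hσ
    rw [hfrob, ← Units.val_pow_eq_pow_val] at hσ
    have e2 : μ ^ (3 ^ i + 1) = 1 := by rw [pow_succ, Units.ext hσ, inv_mul_cancel]
    rw [hμ, ← pow_mul] at e2
    refine hpow _ (Nat.mul_pos (by omega) (Nat.add_pos_right _ Nat.one_pos)) ?_ e2
    have h1 : k * (3 ^ i + 1) ≤ 2 * (3 ^ i + 1) := Nat.mul_le_mul_right _ (by omega)
    have h2 : 3 ^ i ≤ 3 ^ (a - 1) := Nat.pow_le_pow_right (by omega) (by omega)
    have h3 : 3 ^ a = 3 * 3 ^ (a - 1) := by rw [← pow_succ']; congr 1; omega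
    have h4 : 3 ^ 3 ≤ 3 ^ (a - 1) := Nat.pow_le_pow_right (by omega) (by omega)
    omega
  · -- sixteen kills the roots of the even quartic
    rintro rfl
    have key : ∀ q : R3, q ∣ X ^ 16 - 1 → ¬ P ∣ q := fun q hq hd => by
      obtain ⟨r, hr⟩ := hd.trans hq
      have h0 : aeval (μ : K) (X ^ 16 - 1 : R3) = 0 := by rw [hr, map_mul, minpoly.aeval, zero_mul]
      simp only [map_sub, map_pow, aeval_X, map_one, sub_eq_zero, ← Units.val_pow_eq_pow_val] at h0
      have e : g ^ (k * 16) = 1 := by rw [pow_mul, ← hμ]; exact Units.ext h0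
      exact hpow _ (by omega) (by omega) e
    refine ⟨key _ ⟨X ^ 12 - X ^ 10 - X ^ 8 - X ^ 4 + X ^ 2 + 1, ?_⟩,
      key _ ⟨-X ^ 12 - X ^ 10 + X ^ 8 + X ^ 4 + X ^ 2 - 1, ?_⟩⟩
    · rw [qe_eq]; linear_combination ((-1) * X ^ 4 + (1) * X ^ 12 : R3) * three_zero
    · rw [reverse_qe]; linear_combination ((-1) * X ^ 4 + (1) * X ^ 12 : R3) * three_zero
  · -- the commutator
    obtain ⟨c, hc⟩ : ∃ c : Kˣ, Algebra.norm (ZMod 3) (c : K) *
        LinearMap.det frob.toLinearMap = 1 := by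
      have hv : ∀ x : ZMod 3, x = 0 ∨ x = 1 ∨ x = -1 := by decide
      have hne : LinearMap.det frob.toLinearMap ≠ 0 :=
        frob.toLinearEquiv.isUnit_det'.ne_zero
      rcases hv (LinearMap.det frob.toLinearMap) with h | h | h
      · exact absurd h hne
      · exact ⟨1, by rw [Units.val_one, map_one, one_mul, h]⟩
      · exact ⟨g, by rw [hN, h]; norm_num⟩
    let φ : K ≃ₗ[ZMod 3] K := frob.toLinearEquiv
    let r : Module.End (ZMod 3) K ≃ₐ[ZMod 3] Matrix (Fin a) (Fin a) (ZMod 3) := LinearMap.toMatrixAlgEquiv b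
    let u : (Module.End (ZMod 3) K)ˣ →* GL (Fin a) (ZMod 3) := Units.map r.toAlgHom.toMonoidHom
    let m : Kˣ →* (Module.End (ZMod 3) K)ˣ := Units.map (Algebra.lmul (ZMod 3) K).toMonoidHom
    let f : (Module.End (ZMod 3) K)ˣ := LinearMap.GeneralLinearGroup.ofLinearEquiv φ
    have hms : u (m μ) = s := Units.ext rfl
    let z : GL (Fin a) (ZMod 3) := u (m c * f)
    have he : m μ * (m c * f) = m ((μ ^ 2)⁻¹) * ((m c * f) * m μ) := Units.ext <| LinearMap.ext fun x => by
      show (μ : K) * ((c : K) * φ x) = (((μ ^ 2)⁻¹ : Kˣ) : K) * ((c : K) * φ ((μ : K) * x))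
      have e1 : φ ((μ : K) * x) = ((μ : Kˣ) : K) ^ 3 * φ x := by
        show frob _ = _ * frob x
        have h := hfrob 1 (μ : K)
        rw [pow_one, pow_one] at h
        rw [map_mul, h]
      rw [e1, ← Units.val_pow_eq_pow_val]
      have e2 : (((μ ^ 2)⁻¹ : Kˣ) : K) * ((μ ^ 3 : Kˣ) : K) = (μ : K) := by
        rw [← Units.val_mul]; congr 1; rw [pow_succ μ 2, ← mul_assoc, inv_mul_cancel, one_mul]
      rw [← e2]
      ring
    have hA : s * z * s⁻¹ * z⁻¹ = u (m ((μ ^ 2)⁻¹)) := by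
      rw [← hms]
      show u (m μ) * u (m c * f) * (u (m μ))⁻¹ * (u (m c * f))⁻¹ = _
      rw [← map_mul, he, map_mul, map_mul u (m c * f)]
      group
    have hval : ((u (m ((μ ^ 2)⁻¹)) : GL (Fin a) (ZMod 3)) : Matrix (Fin a) (Fin a) (ZMod 3)) =
        L (((μ ^ 2)⁻¹ : Kˣ) : K) := rfl
    refine ⟨L (((μ ^ 2)⁻¹ : Kˣ) : K), b.equivFun 1, ⟨s, z, by rw [hA, hval], hsP, hsdet, ?_⟩,
      cyclicVec_leftMul b hAdeg, ?_⟩
    · have hz : (z : Matrix (Fin a) (Fin a) (ZMod 3)) = L (c : K) * LinearMap.toMatrix b b φ.toLinearMap := by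
        show r (((m c * f : (Module.End (ZMod 3) K)ˣ) : Module.End (ZMod 3) K)) = _
        rw [Units.val_mul, map_mul]
        rfl
      rw [hz, det_mul, hnorm, LinearMap.det_toMatrix]
      exact hc
    · rw [← hval, ← hA]
      simp only [Units.val_mul, det_mul, Matrix.coe_units_inv, Matrix.det_nonsing_inv]
      have h1 := (Matrix.isUnit_iff_isUnit_det _).1 s.isUnit
      have h2 := (Matrix.isUnit_iff_isUnit_det _).1 z.isUnit
      rw [Ring.inverse_eq_inv', mul_right_comm (a := (s : Matrix (Fin a) (Fin a) (ZMod 3)).det),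
        mul_inv_cancel₀ h1.ne_zero, one_mul, mul_inv_cancel₀ h2.ne_zero]

theorem isHead_three_p : IsHead 3 1 h3p := by
  refine ⟨?_, by rw [h3p]; monicity!, by rw [h3p]; compute_degree!, by rw [h3p]; simp [coeff_zero_eq_eval_zero] <;> decide,
    cop_h3p_h3p_rev, fun h => absurd h (by decide), !![0, 2, 1; 0, 1, 1; 1, 1, 1], ![1, 0, 0], ?_, ?_, by decide⟩
  · rw [Monic.irreducible_iff_roots_eq_zero_of_degree_le_three (by rw [h3p]; monicity!)
      (by rw [show h3p.natDegree = 3 by rw [h3p]; compute_degree!]; norm_num) (by rw [show h3p.natDegree = 3 by rw [h3p]; compute_degree!])]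
    refine Multiset.eq_zero_of_forall_notMem fun x hx => ?_
    have := isRoot_of_mem_roots hx
    simp [h3p, IsRoot.def] at this
    revert this; clear hx; revert x; decide
  · refine ⟨⟨!![0, 0, 1; 1, 0, 2; 0, 1, 2], !![1, 1, 0; 1, 0, 1; 1, 0, 0], by decide, by decide⟩,
      ⟨!![0, 0, 1; 0, 1, 0; 2, 0, 0], !![0, 0, 2; 0, 1, 0; 1, 0, 0], by decide, by decide⟩, by decide, ?_, by decide, by decide⟩
    simp only [h3p, map_add, map_pow, aeval_X, map_ofNat]
    decide
  · exact isCyclicVec_of_det (by decide)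

theorem isHead_three_m : IsHead 3 (-1) h3m := by
  refine ⟨?_, by rw [h3m]; monicity!, by rw [h3m]; compute_degree!, by rw [h3m]; simp [coeff_zero_eq_eval_zero] <;> decide,
    cop_h3m_h3m_rev, fun h => absurd h (by decide), !![0, 1, 1; 0, 1, 2; 1, 2, 1], ![1, 0, 0], ?_, ?_, by decide⟩
  · rw [Monic.irreducible_iff_roots_eq_zero_of_degree_le_three (by rw [h3m]; monicity!)
      (by rw [show h3m.natDegree = 3 by rw [h3m]; compute_degree!]; norm_num) (by rw [show h3m.natDegree = 3 by rw [h3m]; compute_degree!])]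
    refine Multiset.eq_zero_of_forall_notMem fun x hx => ?_
    have := isRoot_of_mem_roots hx
    simp [h3m, IsRoot.def] at this
    revert this; clear hx; revert x; decide
  · refine ⟨⟨!![0, 0, 2; 1, 0, 2; 0, 1, 1], !![2, 1, 0; 1, 0, 1; 2, 0, 0], by decide, by decide⟩,
      ⟨!![0, 0, 1; 0, 1, 0; 2, 0, 0], !![0, 0, 2; 0, 1, 0; 1, 0, 0], by decide, by decide⟩, by decide, ?_, by decide, by decide⟩
    simp only [h3m, map_add, map_mul, map_pow, aeval_X, map_one, map_ofNat]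
    decide
  · exact isCyclicVec_of_det (by decide)

/-- The head polynomial of size `a` and determinant `ε`. -/
noncomputable def hd (a : ℕ) (ε : ZMod 3) : R3 :=
  if a = 3 then (if ε = 1 then h3p else h3m)
  else if h : 4 ≤ a ∧ (ε = 1 ∨ ε = -1) then (exists_isHead h.1 h.2).choose else 1

theorem hd_isHead {a : ℕ} (ha : 3 ≤ a) {ε : ZMod 3} (hε : ε = 1 ∨ ε = -1) : IsHead a ε (hd a ε) := by
  unfold hd
  by_cases h3 : a = 3
  · subst h3
    rw [if_pos rfl]
    rcases hε with rfl | rfl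
    · rw [if_pos rfl]; exact isHead_three_p
    · rw [if_neg (by decide)]; exact isHead_three_m
  · rw [if_neg h3, dif_pos ⟨by omega, hε⟩]
    exact (exists_isHead (a := a) (by omega) hε).choose_spec

theorem hd_spec {a : ℕ} (ha : 3 ≤ a) {ε : ZMod 3} (hε : ε = 1 ∨ ε = -1) :
    ∃ (A : Matrix (Fin a) (Fin a) (ZMod 3)) (w : Fin a → ZMod 3),
      HasD (hd a ε) ε A ∧ IsCyclicVec A w ∧ A.det = 1 :=
  (hd_isHead ha hε).spec

theorem hd_three {ε : ZMod 3} (hε : ε = 1 ∨ ε = -1) : hd 3 ε = h3p ∨ hd 3 ε = h3m := by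
  rcases hε with rfl | rfl
  · exact Or.inl (by rw [hd, if_pos rfl, if_pos rfl])
  · exact Or.inr (by rw [hd, if_pos rfl, if_neg (by decide)])

theorem hd_three_one : hd 3 1 = X ^ 3 + X ^ 2 + X + 2 := by rw [hd, if_pos rfl, if_pos rfl, h3p]

theorem hd_three_neg : hd 3 (-1) = X ^ 3 + 2 * X ^ 2 + X + 1 := by
  rw [hd, if_pos rfl, if_neg (by decide), h3m]

theorem small_deg : qf.natDegree = 2 ∧ qe.natDegree = 4 ∧ cp.natDegree = 3 ∧ cm.natDegree = 3 := by
  refine ⟨?_, ?_, ?_, ?_⟩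
  · rw [qf]; compute_degree!
  · rw [qe]; compute_degree!
  · rw [cp]; compute_degree!
  · rw [cm]; compute_degree!

theorem small_coeff : qf.coeff 0 ≠ 0 ∧ qe.coeff 0 ≠ 0 ∧ cp.coeff 0 ≠ 0 ∧ cm.coeff 0 ≠ 0 := by
  refine ⟨?_, ?_, ?_, ?_⟩ <;> simp [qf, qe, cp, cm, coeff_zero_eq_eval_zero] <;> decide

theorem IsHead.ne_zero {a : ℕ} {ε : ZMod 3} {P : R3} (h : IsHead a ε P) (hε : ε = 1 ∨ ε = -1) : P.coeff 0 ≠ 0 := by
  rw [h.coeff]
  exact mul_ne_zero (pow_ne_zero _ (by decide)) (by rcases hε with rfl | rfl <;> decide)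

theorem IsHead.cop_of_lt {a : ℕ} {ε : ZMod 3} {P q : R3} (h : IsHead a ε P) (hq : q.natDegree < a) (hq0 : q ≠ 0) :
    IsCoprime P q :=
  h.irr.coprime_iff_not_dvd.2 fun hdvd => by
    have := natDegree_le_of_dvd hdvd hq0
    rw [h.deg] at this
    omega

/-- A head is coprime to the small polynomials. -/
theorem hd_cop_small {a : ℕ} (ha : 3 ≤ a) {ε : ZMod 3} (hε : ε = 1 ∨ ε = -1) :
    IsCoprime (hd a ε) qf ∧ IsCoprime (hd a ε) qe ∧ IsCoprime (hd a ε) cp ∧ IsCoprime (hd a ε) cm := by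
  obtain ⟨d1, d2, d3, d4⟩ := small_deg
  obtain ⟨c1, c2, c3, c4⟩ := small_coeff
  have nz : ∀ q : R3, q.coeff 0 ≠ 0 → q ≠ 0 := fun q hq e => hq (by rw [e, coeff_zero])
  have H := hd_isHead ha hε
  obtain rfl | ha4 : a = 3 ∨ 4 ≤ a := by omega
  · rcases hd_three hε with e | e <;> rw [e]
    · exact ⟨cop_h3p_qf, cop_h3p_qe, cop_h3p_cp, cop_h3p_cm⟩
    · exact ⟨cop_h3m_qf, cop_h3m_qe, cop_h3m_cp, cop_h3m_cm⟩
  refine ⟨H.cop_of_lt (by omega) (nz _ c1), ?_, H.cop_of_lt (by omega) (nz _ c3), H.cop_of_lt (by omega) (nz _ c4)⟩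
  obtain rfl | h5 : a = 4 ∨ 5 ≤ a := by omega
  · exact H.irr.coprime_iff_not_dvd.2 (H.four rfl).1
  · exact H.cop_of_lt (by omega) (nz _ c2)

/-- The coprimalities used with the products of small polynomials. -/
theorem hd_cop {a : ℕ} (ha : 3 ≤ a) {ε : ZMod 3} (hε : ε = 1 ∨ ε = -1) :
    IsCoprime (hd a ε) (qf ^ 2) ∧ IsCoprime (hd a ε) qe ∧ IsCoprime (hd a ε) (qf * cp) ∧
      IsCoprime (hd a ε) (qf * cm) := by
  obtain ⟨h1, h2, h3, h4⟩ := hd_cop_small ha hε
  exact ⟨h1.pow_right, h2, h1.mul_right h3, h1.mul_right h4⟩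

/-- The polynomials generated. -/
inductive Gen1 : R3 → Prop
  | qf : Gen1 qf
  | qe : Gen1 qe
  | cp : Gen1 cp
  | cm : Gen1 cm
  | hd (a : ℕ) (ha : 3 ≤ a) (ε : ZMod 3) (hε : ε = 1 ∨ ε = -1) : Gen1 (hd a ε)

/-- The products of the allowed polynomials. -/
inductive Sel : R3 → Prop
  | one : Sel 1
  | qf : Sel qf
  | qe : Sel qe
  | cp : Sel cp
  | cm : Sel cm
  | hd (a : ℕ) (ha : 3 ≤ a) (ε : ZMod 3) (hε : ε = 1 ∨ ε = -1) : Sel (hd a ε)
  | mul {P Q : R3} : Sel P → Sel Q → Sel (P * Q)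

theorem Gen1.coeff_ne {q : R3} (h : Gen1 q) : q.coeff 0 ≠ 0 := by
  obtain ⟨c1, c2, c3, c4⟩ := small_coeff
  cases h with
  | qf => exact c1
  | qe => exact c2
  | cp => exact c3
  | cm => exact c4
  | hd a ha ε hε => exact (hd_isHead ha hε).ne_zero hε

/-- A large head against the reciprocals of the small polynomials. -/
theorem IsHead.cop_small_rev {a : ℕ} {ε : ZMod 3} {P q : R3} (h : IsHead a ε P) (ha : 4 ≤ a) (hq : q.natDegree ≤ 3)
    (hq0 : q.coeff 0 ≠ 0) : IsCoprime P q.reverse :=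
  h.cop_of_lt (by rw [natDegree_reverse_of_coeff hq0]; omega) (fun e => hq0 (by
    rw [reverse_eq_zero.1 e, coeff_zero]))

theorem hd_small_rev {a : ℕ} (ha : 3 ≤ a) {ε : ZMod 3} (hε : ε = 1 ∨ ε = -1) :
    IsCoprime (hd a ε) qf.reverse ∧ IsCoprime (hd a ε) qe.reverse ∧ IsCoprime (hd a ε) cp.reverse ∧
      IsCoprime (hd a ε) cm.reverse := by
  obtain ⟨c1, c2, c3, c4⟩ := small_coeff
  obtain ⟨d1, d2, d3, d4⟩ := small_deg
  have H := hd_isHead ha hε
  obtain rfl | ha4 : a = 3 ∨ 4 ≤ a := by omega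
  · have hp : h3p.coeff 0 ≠ 0 := isHead_three_p.ne_zero (Or.inl rfl)
    have hm : h3m.coeff 0 ≠ 0 := isHead_three_m.ne_zero (Or.inr rfl)
    rcases hd_three hε with e | e <;> rw [e]
    · exact ⟨cop_symm c1 hp cop_qf_h3p_rev, cop_symm c2 hp cop_qe_h3p_rev, cop_symm c3 hp cop_cp_h3p_rev,
        cop_symm c4 hp cop_cm_h3p_rev⟩
    · exact ⟨cop_symm c1 hm cop_qf_h3m_rev, cop_symm c2 hm cop_qe_h3m_rev, cop_symm c3 hm cop_cp_h3m_rev,
        cop_symm c4 hm cop_cm_h3m_rev⟩
  refine ⟨H.cop_small_rev ha4 (by omega) c1, ?_, H.cop_small_rev ha4 (by omega) c3, H.cop_small_rev ha4 (by omega) c4⟩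
  refine H.irr.coprime_iff_not_dvd.2 fun hdvd => ?_
  obtain rfl | h5 : a = 4 ∨ 5 ≤ a := by omega
  · exact (H.four rfl).2 hdvd
  · have := natDegree_le_of_dvd hdvd (fun e => c2 (by rw [reverse_eq_zero.1 e, coeff_zero]))
    rw [H.deg, natDegree_reverse_of_coeff c2] at this
    omega

theorem hd_hd {a c : ℕ} (ha : 3 ≤ a) (hc : 3 ≤ c) {ε η : ZMod 3} (hε : ε = 1 ∨ ε = -1) (hη : η = 1 ∨ η = -1) :
    IsCoprime (hd a ε) (hd c η).reverse := by
  have H := hd_isHead ha hε
  have G := hd_isHead hc hη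
  set P := hd a ε with hPdef
  set Q := hd c η with hQdef
  refine H.irr.coprime_iff_not_dvd.2 fun hdvd => ?_
  obtain ⟨R, hR⟩ := hdvd
  have hQ : Q = P.reverse * R.reverse := by
    rw [← reverse_mul_of_domain, ← hR, reverse_reverse' (G.ne_zero hη)]
  have hPd := natDegree_reverse_of_coeff (H.ne_zero hε)
  have hu : IsUnit R.reverse := (G.irr.isUnit_or_isUnit hQ).resolve_left fun hu => by
    have := natDegree_eq_zero_of_isUnit hu
    rw [hPd, H.deg] at this
    omega
  obtain ⟨r, hr, hr'⟩ := Polynomial.isUnit_iff.1 hu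
  rw [← hr'] at hQ
  have e1 : c = a := by
    rw [← G.deg, hQ, natDegree_mul_C hr.ne_zero, hPd, H.deg]
  subst e1
  have e2 : Q.leadingCoeff = P.reverse.leadingCoeff * r := by rw [hQ, leadingCoeff_mul, leadingCoeff_C]
  rw [G.monic.leadingCoeff, reverse_leadingCoeff, trailingCoeff_eq_coeff_zero (H.ne_zero hε), H.coeff] at e2
  have e3 : Q.coeff 0 = r := by
    rw [hQ, mul_coeff_zero, coeff_zero_reverse, H.monic.leadingCoeff, one_mul, coeff_C_zero]
  rw [G.coeff] at e3
  have e4 : η = ε := by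
    rw [← e3] at e2
    have hs : ((-1 : ZMod 3) ^ c) * (-1) ^ c = 1 := by rw [← mul_pow]; norm_num
    have e5 : ε * η = 1 := by linear_combination -e2 + (-(ε * η)) * hs
    rcases hε with rfl | rfl <;> rcases hη with rfl | rfl <;> first | rfl | exact absurd e5 (by decide)
  subst e4
  exact H.irr.not_isUnit (H.good.isUnit_of_dvd' dvd_rfl ⟨R, hR⟩)

theorem Gen1.cop {p q : R3} (hp : Gen1 p) (hq : Gen1 q) : IsCoprime p q.reverse := by
  obtain ⟨c1, c2, c3, c4⟩ := small_coeff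
  cases hp with
  | qf =>
    cases hq with
    | qf => exact cop_qf_qf_rev
    | qe => exact cop_qf_qe_rev
    | cp => exact cop_qf_cp_rev
    | cm => exact cop_qf_cm_rev
    | hd a ha ε hε => exact cop_symm ((hd_isHead ha hε).ne_zero hε) c1 (hd_small_rev ha hε).1
  | qe =>
    cases hq with
    | qf => exact cop_symm c1 c2 cop_qf_qe_rev
    | qe => exact cop_qe_qe_rev
    | cp => exact cop_qe_cp_rev
    | cm => exact cop_qe_cm_rev
    | hd a ha ε hε => exact cop_symm ((hd_isHead ha hε).ne_zero hε) c2 (hd_small_rev ha hε).2.1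
  | cp =>
    cases hq with
    | qf => exact cop_symm c1 c3 cop_qf_cp_rev
    | qe => exact cop_symm c2 c3 cop_qe_cp_rev
    | cp => exact cop_cp_cp_rev
    | cm => exact cop_cp_cm_rev
    | hd a ha ε hε => exact cop_symm ((hd_isHead ha hε).ne_zero hε) c3 (hd_small_rev ha hε).2.2.1
  | cm =>
    cases hq with
    | qf => exact cop_symm c1 c4 cop_qf_cm_rev
    | qe => exact cop_symm c2 c4 cop_qe_cm_rev
    | cp => exact cop_symm c3 c4 cop_cp_cm_rev
    | cm => exact cop_cm_cm_rev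
    | hd a ha ε hε => exact cop_symm ((hd_isHead ha hε).ne_zero hε) c4 (hd_small_rev ha hε).2.2.2
  | hd a ha ε hε =>
    cases hq with
    | qf => exact (hd_small_rev ha hε).1
    | qe => exact (hd_small_rev ha hε).2.1
    | cp => exact (hd_small_rev ha hε).2.2.1
    | cm => exact (hd_small_rev ha hε).2.2.2
    | hd c hc η hη => exact hd_hd ha hc hε hη

theorem Sel.cop_gen {P : R3} (h : Sel P) {q : R3} (hq : Gen1 q) : IsCoprime P q.reverse := by
  induction h with
  | one => exact isCoprime_one_left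
  | qf => exact Gen1.qf.cop hq
  | qe => exact Gen1.qe.cop hq
  | cp => exact Gen1.cp.cop hq
  | cm => exact Gen1.cm.cop hq
  | hd a ha ε hε => exact (Gen1.hd a ha ε hε).cop hq
  | mul _ _ h1 h2 => exact h1.mul_left h2

theorem Sel.cop {P Q : R3} (hP : Sel P) (hQ : Sel Q) : IsCoprime P Q.reverse := by
  induction hQ with
  | one => rw [← map_one C, reverse_C, map_one]; exact isCoprime_one_right
  | qf => exact hP.cop_gen Gen1.qf
  | qe => exact hP.cop_gen Gen1.qe
  | cp => exact hP.cop_gen Gen1.cp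
  | cm => exact hP.cop_gen Gen1.cm
  | hd a ha ε hε => exact hP.cop_gen (Gen1.hd a ha ε hε)
  | mul _ _ h1 h2 => rw [reverse_mul_of_domain]; exact h1.mul_right h2

/-- The products have no two roots of product one. -/
theorem Sel.good {P : R3} (h : Sel P) : Good P := h.cop h

end CfsgLib.OreSmallThree
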