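import Cfsg.Agent.Lib.OreSmallThree.Basic
import Cfsg.Agent.Lib.SpComm.Geometry
import Cfsg.Agent.Lib.SpComm.Small
import Cfsg.Agent.Lib.PSLCover.Cyclic

/-!
The heads over three elements: for every size at least three and both signs a cyclic commutator whose first
factor has an irreducible polynomial, the coprimalities of these polynomials, and the products of them that
occur (no two roots of product one).
-/

set_option autoImplicit false
set_option linter.unusedSectionVars false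

namespace CfsgLib.OreSmallThree

open Matrix Polynomial CfsgLib.PSLCover
open CfsgLib.SpComm (Good reverse_reverse')

local notation "R3" => Polynomial (ZMod 3)

theorem three_zero : (3 : R3) = 0 := by
  rw [← map_ofNat Polynomial.C, show (3 : ZMod 3) = 0 from by decide, map_zero]

/-- The spare cubic of determinant one. -/
noncomputable def h3p : R3 := X ^ 3 + X ^ 2 + X + 2
/-- The spare cubic of determinant minus one. -/
noncomputable def h3m : R3 := X ^ 3 + 2 * X ^ 2 + X + 1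

theorem qf_eq : qf = (X ^ 2 + X - 1 : R3) := by
  rw [qf]; first | linear_combination three_zero | linear_combination (X ^ 2 : R3) * three_zero

theorem reverse_qf : qf.reverse = (-X ^ 2 + X + 1 : R3) := by
  have hd : (X ^ 2 + X - 1 : R3).natDegree = 2 := by compute_degree!
  rw [qf_eq, Polynomial.reverse, hd]
  ext k
  rw [coeff_reflect]
  rcases k with _ | _ | _ | k
  all_goals (first | rw [revAt_le (by omega)] | rw [revAt_eq_self_of_lt (by omega)]) <;>
    simp [coeff_X, coeff_one, coeff_X_pow]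

theorem qe_eq : qe = (X ^ 4 + X ^ 2 - 1 : R3) := by
  rw [qe]; first | linear_combination three_zero | linear_combination (X ^ 2 : R3) * three_zero

theorem reverse_qe : qe.reverse = (-X ^ 4 + X ^ 2 + 1 : R3) := by
  have hd : (X ^ 4 + X ^ 2 - 1 : R3).natDegree = 4 := by compute_degree!
  rw [qe_eq, Polynomial.reverse, hd]
  ext k
  rw [coeff_reflect]
  rcases k with _ | _ | _ | _ | _ | k
  all_goals (first | rw [revAt_le (by omega)] | rw [revAt_eq_self_of_lt (by omega)]) <;>
    simp [coeff_X, coeff_one, coeff_X_pow]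

theorem cp_eq : cp = (X ^ 3 + X ^ 2 - 1 : R3) := by
  rw [cp]; first | linear_combination three_zero | linear_combination (X ^ 2 : R3) * three_zero

theorem reverse_cp : cp.reverse = (-X ^ 3 + X + 1 : R3) := by
  have hd : (X ^ 3 + X ^ 2 - 1 : R3).natDegree = 3 := by compute_degree!
  rw [cp_eq, Polynomial.reverse, hd]
  ext k
  rw [coeff_reflect]
  rcases k with _ | _ | _ | _ | k
  all_goals (first | rw [revAt_le (by omega)] | rw [revAt_eq_self_of_lt (by omega)]) <;>
    simp [coeff_X, coeff_one, coeff_X_pow]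

theorem cm_eq : cm = (X ^ 3 - X ^ 2 + 1 : R3) := by
  rw [cm]; first | linear_combination three_zero | linear_combination (X ^ 2 : R3) * three_zero

theorem reverse_cm : cm.reverse = (X ^ 3 - X + 1 : R3) := by
  have hd : (X ^ 3 - X ^ 2 + 1 : R3).natDegree = 3 := by compute_degree!
  rw [cm_eq, Polynomial.reverse, hd]
  ext k
  rw [coeff_reflect]
  rcases k with _ | _ | _ | _ | k
  all_goals (first | rw [revAt_le (by omega)] | rw [revAt_eq_self_of_lt (by omega)]) <;>
    simp [coeff_X, coeff_one, coeff_X_pow]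

theorem h3p_eq : h3p = (X ^ 3 + X ^ 2 + X - 1 : R3) := by
  rw [h3p]; first | linear_combination three_zero | linear_combination (X ^ 2 : R3) * three_zero

theorem reverse_h3p : h3p.reverse = (-X ^ 3 + X ^ 2 + X + 1 : R3) := by
  have hd : (X ^ 3 + X ^ 2 + X - 1 : R3).natDegree = 3 := by compute_degree!
  rw [h3p_eq, Polynomial.reverse, hd]
  ext k
  rw [coeff_reflect]
  rcases k with _ | _ | _ | _ | k
  all_goals (first | rw [revAt_le (by omega)] | rw [revAt_eq_self_of_lt (by omega)]) <;>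
    simp [coeff_X, coeff_one, coeff_X_pow]

theorem h3m_eq : h3m = (X ^ 3 - X ^ 2 + X + 1 : R3) := by
  rw [h3m]; first | linear_combination three_zero | linear_combination (X ^ 2 : R3) * three_zero

theorem reverse_h3m : h3m.reverse = (X ^ 3 + X ^ 2 - X + 1 : R3) := by
  have hd : (X ^ 3 - X ^ 2 + X + 1 : R3).natDegree = 3 := by compute_degree!
  rw [h3m_eq, Polynomial.reverse, hd]
  ext k
  rw [coeff_reflect]
  rcases k with _ | _ | _ | _ | k
  all_goals (first | rw [revAt_le (by omega)] | rw [revAt_eq_self_of_lt (by omega)]) <;>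
    simp [coeff_X, coeff_one, coeff_X_pow]

theorem cop_qf_qf_rev : IsCoprime qf qf.reverse := by
  rw [reverse_qf, qf_eq]
  exact ⟨-X + 1, -X - 1, by linear_combination ((-1) * X ^ 0 : R3) * three_zero⟩

theorem cop_qf_qe_rev : IsCoprime qf qe.reverse := by
  rw [reverse_qe, qf_eq]
  exact ⟨-X ^ 3 + 1, -X - 1, by linear_combination ((-1) * X ^ 0 : R3) * three_zero⟩

theorem cop_qf_cp_rev : IsCoprime qf cp.reverse := by
  rw [reverse_cp, qf_eq]
  exact ⟨-X ^ 2 + X - 1, -X, by linear_combination ((-1) * X ^ 1 : R3) * three_zero⟩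

theorem cop_qf_cm_rev : IsCoprime qf cm.reverse := by
  rw [reverse_cm, qf_eq]
  exact ⟨-X ^ 2, X + 1, by linear_combination (0 : R3) * three_zero⟩

theorem cop_qf_h3p_rev : IsCoprime qf h3p.reverse := by
  rw [reverse_h3p, qf_eq]
  exact ⟨X ^ 2 - X, X + 1, by linear_combination ((1) * X ^ 1 : R3) * three_zero⟩

theorem cop_qf_h3m_rev : IsCoprime qf h3m.reverse := by
  rw [reverse_h3m, qf_eq]
  exact ⟨-X, 1, by linear_combination (0 : R3) * three_zero⟩

theorem cop_qe_qe_rev : IsCoprime qe qe.reverse := by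
  rw [reverse_qe, qe_eq]
  exact ⟨-X ^ 2 + 1, -X ^ 2 - 1, by linear_combination ((-1) * X ^ 0 : R3) * three_zero⟩

theorem cop_qe_cp_rev : IsCoprime qe cp.reverse := by
  rw [reverse_cp, qe_eq]
  exact ⟨X ^ 2 + X - 1, X ^ 3 + X ^ 2 + X, by linear_combination ((1) * X ^ 3 : R3) * three_zero⟩

theorem cop_qe_cm_rev : IsCoprime qe cm.reverse := by
  rw [reverse_cm, qe_eq]
  exact ⟨X ^ 2 - X - 1, -X ^ 3 + X ^ 2 - X, by linear_combination ((-1) * X ^ 3 : R3) * three_zero⟩

theorem cop_qe_h3p_rev : IsCoprime qe h3p.reverse := by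
  rw [reverse_h3p, qe_eq]
  exact ⟨-X ^ 2 + X + 1, -X ^ 3 - X - 1, by linear_combination ((-1) * X ^ 0 + (-1) * X ^ 1 : R3) * three_zero⟩

theorem cop_qe_h3m_rev : IsCoprime qe h3m.reverse := by
  rw [reverse_h3m, qe_eq]
  exact ⟨-X ^ 2 - X + 1, X ^ 3 + X - 1, by linear_combination ((-1) * X ^ 0 + (1) * X ^ 1 : R3) * three_zero⟩

theorem cop_cp_cp_rev : IsCoprime cp cp.reverse := by
  rw [reverse_cp, cp_eq]
  exact ⟨X - 1, X, by linear_combination (0 : R3) * three_zero⟩

theorem cop_cp_cm_rev : IsCoprime cp cm.reverse := by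
  rw [reverse_cm, cp_eq]
  exact ⟨-X ^ 2 + X + 1, X ^ 2 - 1, by linear_combination ((-1) * X ^ 0 + (1) * X ^ 2 : R3) * three_zero⟩

theorem cop_cp_h3p_rev : IsCoprime cp h3p.reverse := by
  rw [reverse_h3p, cp_eq]
  exact ⟨-X ^ 2 - X + 1, -X ^ 2 - 1, by linear_combination ((-1) * X ^ 0 + (-1) * X ^ 4 : R3) * three_zero⟩

theorem cop_cp_h3m_rev : IsCoprime cp h3m.reverse := by
  rw [reverse_h3m, cp_eq]
  exact ⟨X ^ 2 - 1, -X ^ 2, by linear_combination ((-1) * X ^ 2 : R3) * three_zero⟩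

theorem cop_cm_cm_rev : IsCoprime cm cm.reverse := by
  rw [reverse_cm, cm_eq]
  exact ⟨X + 1, -X, by linear_combination (0 : R3) * three_zero⟩

theorem cop_cm_h3p_rev : IsCoprime cm h3p.reverse := by
  rw [reverse_h3p, cm_eq]
  exact ⟨-X ^ 2 + 1, -X ^ 2, by linear_combination ((-1) * X ^ 2 : R3) * three_zero⟩

theorem cop_cm_h3m_rev : IsCoprime cm h3m.reverse := by
  rw [reverse_h3m, cm_eq]
  exact ⟨X ^ 2 - X - 1, -X ^ 2 - 1, by linear_combination ((-1) * X ^ 0 + (-1) * X ^ 4 : R3) * three_zero⟩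

theorem cop_h3p_h3p_rev : IsCoprime h3p h3p.reverse := by
  rw [reverse_h3p, h3p_eq]
  exact ⟨X ^ 2, X ^ 2 - X + 1, by linear_combination ((1) * X ^ 4 : R3) * three_zero⟩

theorem cop_h3p_h3m_rev : IsCoprime h3p h3m.reverse := by
  rw [reverse_h3m, h3p_eq]
  exact ⟨-X ^ 2 + X - 1, X ^ 2 - X, by linear_combination ((-1) * X ^ 1 + (1) * X ^ 2 + (-1) * X ^ 3 : R3) * three_zero⟩

theorem cop_h3m_h3m_rev : IsCoprime h3m h3m.reverse := by
  rw [reverse_h3m, h3m_eq]
  exact ⟨-X ^ 2, X ^ 2 + X + 1, by linear_combination ((1) * X ^ 4 : R3) * three_zero⟩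

theorem cop_h3p_qf : IsCoprime h3p qf := by
  rw [h3p_eq, qf_eq]
  exact ⟨-X, X ^ 2 - 1, by linear_combination ((-1) * X ^ 2 : R3) * three_zero⟩

theorem cop_h3p_qe : IsCoprime h3p qe := by
  rw [h3p_eq, qe_eq]
  exact ⟨X ^ 3 - 1, -X ^ 2 - X, by linear_combination ((-1) * X ^ 3 : R3) * three_zero⟩

theorem cop_h3p_cp : IsCoprime h3p cp := by
  rw [h3p_eq, cp_eq]
  exact ⟨X ^ 2 + X, -X ^ 2 - X - 1, by linear_combination (0 : R3) * three_zero⟩

theorem cop_h3p_cm : IsCoprime h3p cm := by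
  rw [h3p_eq, cm_eq]
  exact ⟨-X ^ 2 - X - 1, X ^ 2, by linear_combination ((-1) * X ^ 3 + (-1) * X ^ 4 : R3) * three_zero⟩

theorem cop_h3m_qf : IsCoprime h3m qf := by
  rw [h3m_eq, qf_eq]
  exact ⟨-X + 1, X ^ 2, by linear_combination ((-1) * X ^ 2 + (1) * X ^ 3 : R3) * three_zero⟩

theorem cop_h3m_qe : IsCoprime h3m qe := by
  rw [h3m_eq, qe_eq]
  exact ⟨X ^ 3 + 1, -X ^ 2 + X, by linear_combination ((1) * X ^ 3 : R3) * three_zero⟩

theorem cop_h3m_cp : IsCoprime h3m cp := by
  rw [h3m_eq, cp_eq]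
  exact ⟨X ^ 2 - X + 1, -X ^ 2, by linear_combination ((1) * X ^ 3 + (-1) * X ^ 4 : R3) * three_zero⟩

theorem cop_h3m_cm : IsCoprime h3m cm := by
  rw [h3m_eq, cm_eq]
  exact ⟨-X ^ 2 + X, X ^ 2 - X + 1, by linear_combination (0 : R3) * three_zero⟩

end CfsgLib.OreSmallThree
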