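import Cfsg.Agent.Lib.OreSmallThree.TableEnum

/-!
Certificates found by a script, checked by `certsOK`.
-/

set_option autoImplicit false
set_option maxRecDepth 100000

namespace CfsgLib.OreSmallThree.Tab

/-- Certificates. -/
def cert4qq_0 : List (List (List ℕ) × Cert) :=
  [([[1], [1], [1], [1]], ⟨1, [2, 2, 1, 1], [1, 3, 9, 27], [48, 76, 60, 2], [61, 73, 37, 45], [61, 73, 37, 45], [54, 79, 20, 32], [1, 3, 9, 27],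
    [[50, 73, 78, 56], [59, 76, 54, 43], [27, 41, 10, 61], [0, 0, 0, 0]],
    ⟨[1, 4, 9, 27], [1, 5, 11, 35], [49, 15, 18, 27], [49, 77, 62, 2]⟩, ⟨[1, 3, 9, 27], [1, 4, 13, 36], [61, 21, 72, 54], [61, 73, 37, 45]⟩⟩),
   ([[1, 0], [1, 0]], ⟨1, [2, 2, 1, 1], [3, 1, 27, 9], [52, 35, 60, 36], [32, 71, 50, 29], [71, 32, 29, 50], [57, 46, 23, 76], [1, 3, 9, 27],
    [[51, 32, 78, 9], [42, 52, 70, 33], [65, 62, 53, 40], [0, 0, 0, 0]],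
    ⟨[1, 3, 9, 27], [1, 5, 15, 45], [52, 75, 45, 54], [52, 35, 60, 36]⟩, ⟨[1, 3, 9, 27], [1, 4, 10, 52], [32, 39, 18, 27], [32, 71, 50, 29]⟩⟩),
   ([[2, 0], [2, 0]], ⟨1, [2, 2, 1, 1], [6, 1, 54, 9], [27, 46, 72, 80], [21, 28, 33, 13], [56, 21, 26, 33], [13, 55, 74, 34], [1, 3, 9, 27],
    [[29, 52, 63, 53], [52, 13, 22, 16], [17, 40, 10, 2], [0, 0, 0, 0]],
    ⟨[1, 3, 12, 37], [1, 5, 14, 43], [37, 69, 36, 54], [37, 35, 71, 67]⟩, ⟨[1, 4, 9, 27], [1, 4, 11, 41], [22, 42, 45, 27], [22, 28, 35, 14]⟩⟩),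
   ([[1, 1], [1, 1]], ⟨1, [2, 2, 1, 1], [3, 4, 27, 36], [44, 16, 14, 71], [71, 1, 67, 37], [1, 69, 37, 23], [44, 47, 6, 78], [1, 3, 9, 27],
    [[43, 13, 5, 44], [19, 32, 74, 7], [31, 37, 12, 55], [0, 0, 0, 0]],
    ⟨[1, 3, 9, 27], [1, 5, 16, 28], [44, 48, 18, 27], [44, 16, 14, 71]⟩, ⟨[1, 3, 9, 27], [1, 5, 11, 50], [71, 69, 45, 54], [71, 1, 67, 37]⟩⟩),
   ([[2, 1], [2], [2]], ⟨1, [2, 2, 1, 1], [6, 4, 18, 54], [37, 63, 20, 32], [76, 67, 25, 66], [53, 35, 14, 51], [50, 40, 46, 57], [1, 3, 9, 27],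
    [[36, 69, 11, 5], [48, 12, 55, 2], [22, 59, 26, 20], [0, 0, 0, 0]],
    ⟨[1, 3, 12, 36], [1, 3, 11, 35], [49, 57, 36, 27], [49, 57, 26, 41]⟩, ⟨[1, 3, 12, 27], [1, 4, 16, 39], [73, 24, 45, 27], [73, 70, 22, 69]⟩⟩),
   ([[2, 1], [2, 1]], ⟨1, [2, 2, 1, 1], [6, 4, 54, 36], [20, 32, 24, 68], [68, 76, 9, 28], [44, 33, 56, 37], [43, 36, 35, 73], [1, 3, 9, 27],
    [[19, 29, 15, 41], [4, 72, 67, 68], [50, 31, 71, 25], [0, 0, 0, 0]],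
    ⟨[1, 3, 9, 36], [1, 4, 15, 49], [20, 48, 36, 54], [20, 41, 24, 59]⟩, ⟨[1, 3, 9, 27], [1, 5, 9, 44], [68, 33, 9, 27], [68, 76, 9, 28]⟩⟩),
   ([[1, 2], [1, 2]], ⟨1, [2, 2, 1, 1], [3, 7, 27, 63], [47, 55, 6, 65], [6, 60, 55, 52], [60, 27, 52, 39], [72, 65, 30, 42], [1, 3, 9, 27],
    [[46, 61, 24, 38], [3, 17, 50, 24], [56, 9, 4, 59], [0, 0, 0, 0]],
    ⟨[1, 3, 12, 27], [1, 5, 12, 31], [53, 24, 9, 27], [53, 55, 6, 68]⟩, ⟨[1, 4, 9, 39], [1, 4, 17, 27], [8, 78, 36, 27], [8, 77, 79, 27]⟩⟩),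
   ([[2, 2], [1], [1]], ⟨1, [2, 2, 1, 1], [6, 7, 9, 27], [37, 25, 38, 4], [30, 1, 76, 58], [2, 32, 76, 58], [74, 64, 23, 31], [1, 3, 9, 27],
    [[36, 22, 29, 58], [41, 21, 66, 4], [19, 65, 41, 62], [0, 0, 0, 0]],
    ⟨[1, 3, 9, 27], [1, 4, 11, 34], [37, 69, 72, 27], [37, 25, 38, 4]⟩, ⟨[1, 4, 9, 27], [1, 4, 14, 32], [31, 60, 45, 27], [31, 1, 77, 59]⟩⟩),
   ([[2, 2], [2, 2]], ⟨1, [2, 2, 1, 1], [6, 7, 54, 63], [66, 59, 2, 5], [68, 47, 29, 10], [64, 48, 20, 46], [63, 62, 52, 69], [1, 3, 9, 27],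
    [[68, 56, 20, 59], [25, 46, 43, 78], [9, 63, 23, 57], [0, 0, 0, 0]],
    ⟨[1, 4, 9, 27], [1, 3, 14, 30], [67, 57, 9, 27], [67, 57, 2, 3]⟩, ⟨[1, 3, 9, 27], [1, 4, 13, 35], [68, 69, 9, 27], [68, 47, 29, 10]⟩⟩),
   ([[1, 0, 0], [1]], ⟨1, [2, 2, 1, 1], [9, 1, 3, 27], [56, 40, 35, 36], [49, 15, 31, 50], [31, 49, 15, 50], [48, 25, 22, 78], [1, 3, 9, 27],
    [[55, 37, 53, 9], [46, 40, 19, 8], [67, 77, 39, 51], [0, 0, 0, 0]],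
    ⟨[1, 3, 9, 27], [1, 5, 16, 36], [56, 12, 63, 54], [56, 40, 35, 36]⟩, ⟨[1, 3, 9, 27], [1, 3, 10, 32], [49, 15, 9, 54], [49, 15, 31, 50]⟩⟩),
   ([[2, 0, 0], [2]], ⟨1, [2, 2, 1, 1], [18, 1, 3, 54], [14, 5, 57, 48], [45, 9, 37, 42], [74, 45, 9, 75], [1, 72, 57, 17], [1, 3, 9, 27],
    [[13, 2, 75, 21], [63, 22, 8, 2], [37, 43, 5, 52], [0, 0, 0, 0]],
    ⟨[1, 3, 12, 27], [1, 4, 15, 36], [17, 24, 72, 54], [17, 5, 57, 45]⟩, ⟨[1, 3, 10, 30], [1, 5, 10, 32], [50, 30, 18, 27], [50, 10, 41, 37]⟩⟩),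
   ([[2, 1, 1], [2]], ⟨1, [2, 2, 1, 1], [18, 10, 12, 54], [59, 21, 74, 72], [32, 73, 31, 58], [62, 60, 23, 35], [76, 51, 56, 4], [1, 3, 9, 27],
    [[58, 18, 65, 45], [7, 43, 51, 55], [63, 22, 25, 41], [0, 0, 0, 0]],
    ⟨[1, 3, 9, 27], [1, 3, 16, 45], [59, 21, 9, 54], [59, 21, 74, 72]⟩, ⟨[1, 3, 9, 27], [1, 5, 17, 44], [32, 21, 72, 27], [32, 73, 31, 58]⟩⟩),
   ([[1, 2, 1], [1]], ⟨1, [2, 2, 1, 1], [9, 19, 12, 27], [21, 47, 2, 49], [10, 35, 53, 38], [53, 77, 76, 38], [9, 14, 20, 27], [1, 3, 9, 27],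
    [[23, 53, 20, 22], [35, 15, 7, 12], [9, 66, 67, 73], [0, 0, 0, 0]],
    ⟨[1, 4, 9, 27], [1, 5, 14, 53], [22, 39, 63, 27], [22, 47, 2, 50]⟩, ⟨[1, 3, 9, 27], [1, 5, 14, 38], [10, 42, 18, 27], [10, 35, 53, 38]⟩⟩),
   ([[1, 1, 2], [1]], ⟨1, [2, 2, 1, 1], [9, 10, 21, 27], [4, 42, 56, 39], [65, 59, 61, 57], [61, 42, 7, 57], [40, 62, 79, 3], [1, 3, 9, 27],
    [[3, 39, 74, 12], [44, 53, 12, 71], [59, 33, 26, 43], [0, 0, 0, 0]],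
    ⟨[1, 3, 9, 27], [1, 3, 17, 51], [4, 42, 9, 54], [4, 42, 56, 39]⟩, ⟨[1, 3, 9, 36], [1, 4, 17, 30], [56, 21, 36, 54], [56, 77, 79, 75]⟩⟩),
   ([[2, 2, 2], [2]], ⟨1, [2, 2, 1, 1], [18, 19, 21, 54], [4, 67, 51, 14], [76, 58, 3, 78], [6, 73, 55, 39], [53, 59, 20, 12], [1, 3, 9, 27],
    [[3, 64, 42, 68], [66, 41, 70, 76], [24, 14, 67, 69], [0, 0, 0, 0]],
    ⟨[1, 3, 12, 27], [1, 4, 12, 38], [4, 66, 63, 27], [4, 70, 48, 17]⟩, ⟨[1, 3, 12, 27], [1, 4, 12, 48], [73, 12, 18, 54], [73, 58, 3, 75]⟩⟩),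
   ([[2, 0, 0, 0]], ⟨1, [2, 2, 1, 1], [54, 1, 3, 9], [6, 49, 5, 20], [50, 7, 8, 18], [9, 50, 7, 8], [5, 40, 68, 65], [1, 3, 9, 27],
    [[8, 46, 23, 74], [64, 18, 41, 65], [10, 1, 47, 42], [0, 0, 0, 0]],
    ⟨[1, 4, 9, 27], [1, 4, 15, 52], [8, 51, 45, 54], [8, 50, 3, 20]⟩, ⟨[1, 3, 12, 27], [1, 5, 13, 30], [47, 51, 45, 54], [47, 7, 8, 24]⟩⟩),
   ([[2, 1, 0, 0]], ⟨1, [2, 2, 1, 1], [54, 28, 3, 9], [31, 59, 36, 45], [66, 43, 21, 44], [76, 20, 43, 21], [33, 53, 29, 50], [1, 3, 9, 27],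
    [[30, 56, 27, 18], [22, 41, 36, 45], [79, 4, 63, 36], [0, 0, 0, 0]],
    ⟨[1, 3, 9, 27], [1, 5, 9, 45], [31, 6, 36, 54], [31, 59, 36, 45]⟩, ⟨[1, 4, 9, 27], [1, 3, 10, 43], [67, 42, 36, 54], [67, 42, 22, 43]⟩⟩),
   ([[2, 2, 0, 0]], ⟨1, [2, 2, 1, 1], [54, 55, 3, 9], [37, 59, 35, 79], [4, 77, 55, 25], [14, 15, 77, 55], [72, 57, 28, 75], [1, 3, 9, 27],
    [[36, 56, 53, 52], [23, 1, 35, 61], [24, 40, 76, 46], [0, 0, 0, 0]],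
    ⟨[1, 3, 9, 27], [1, 5, 17, 43], [37, 12, 72, 54], [37, 59, 35, 79]⟩, ⟨[1, 3, 9, 27], [1, 5, 13, 43], [4, 78, 9, 54], [4, 77, 55, 25]⟩⟩),
   ([[2, 0, 1, 0]], ⟨1, [2, 2, 1, 1], [54, 1, 30, 9], [31, 51, 11, 14], [23, 79, 32, 3], [6, 23, 73, 32], [66, 12, 36, 7], [1, 3, 9, 27],
    [[30, 48, 2, 68], [28, 51, 80, 74], [43, 63, 34, 13], [0, 0, 0, 0]],
    ⟨[1, 3, 9, 36], [1, 3, 17, 41], [40, 33, 72, 27], [40, 33, 11, 14]⟩, ⟨[1, 3, 12, 36], [1, 5, 13, 30], [20, 57, 72, 27], [20, 67, 41, 3]⟩⟩),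
   ([[2, 1, 1, 0]], ⟨1, [2, 2, 1, 1], [54, 28, 30, 9], [9, 79, 48, 26], [22, 69, 41, 3], [6, 25, 63, 41], [41, 2, 34, 24], [1, 3, 9, 27],
    [[11, 76, 39, 80], [41, 50, 24, 75], [25, 39, 2, 71], [0, 0, 0, 0]],
    ⟨[1, 3, 10, 27], [1, 3, 17, 40], [10, 78, 18, 27], [10, 78, 50, 25]⟩, ⟨[1, 3, 9, 27], [1, 3, 14, 51], [22, 69, 72, 27], [22, 69, 41, 3]⟩⟩),
   ([[2, 2, 1, 0]], ⟨1, [2, 2, 1, 1], [54, 55, 30, 9], [35, 7, 73, 39], [64, 11, 62, 71], [49, 5, 79, 62], [26, 56, 33, 48], [1, 3, 9, 27],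
    [[34, 4, 64, 12], [66, 27, 57, 53], [39, 42, 58, 74], [0, 0, 0, 0]],
    ⟨[1, 3, 9, 27], [1, 5, 17, 48], [35, 30, 45, 27], [35, 7, 73, 39]⟩, ⟨[1, 3, 12, 27], [1, 5, 11, 44], [67, 78, 36, 54], [67, 14, 62, 65]⟩⟩),
   ([[2, 0, 2, 0]], ⟨1, [2, 2, 1, 1], [54, 1, 57, 9], [24, 45, 3, 52], [26, 27, 79, 43], [77, 26, 23, 79], [14, 72, 27, 44], [1, 3, 9, 27],
    [[26, 51, 21, 25], [74, 1, 42, 30], [75, 18, 10, 16], [0, 0, 0, 0]],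
    ⟨[1, 4, 12, 36], [1, 3, 14, 33], [23, 33, 72, 54], [23, 33, 4, 30]⟩, ⟨[1, 3, 9, 30], [1, 3, 11, 35], [26, 30, 63, 54], [26, 30, 76, 37]⟩⟩),
   ([[2, 1, 2, 0]], ⟨1, [2, 2, 1, 1], [54, 28, 57, 9], [35, 41, 25, 66], [2, 25, 32, 54], [27, 56, 52, 32], [66, 19, 65, 72], [1, 3, 9, 27],
    [[34, 38, 16, 39], [62, 29, 1, 66], [69, 37, 44, 24], [0, 0, 0, 0]],
    ⟨[1, 3, 9, 36], [1, 4, 17, 42], [44, 15, 36, 27], [44, 50, 25, 57]⟩, ⟨[1, 3, 9, 27], [1, 5, 16, 27], [2, 24, 45, 54], [2, 25, 32, 54]⟩⟩),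
   ([[2, 2, 2, 0]], ⟨1, [2, 2, 1, 1], [54, 55, 57, 9], [8, 9, 62, 56], [63, 55, 80, 57], [33, 15, 7, 80], [74, 80, 26, 78], [1, 3, 9, 27],
    [[7, 15, 80, 29], [25, 77, 69, 30], [46, 63, 6, 11], [0, 0, 0, 0]],
    ⟨[1, 3, 12, 36], [1, 3, 10, 49], [8, 12, 72, 27], [8, 12, 80, 74]⟩, ⟨[1, 3, 13, 27], [1, 4, 10, 51], [67, 24, 9, 54], [67, 55, 76, 57]⟩⟩)]

theorem cert4qq_0_ok : certsOK 4 [2, 2, 1, 1] 1 cert4qq_0 = true := by decide +kernel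

/-- Certificates. -/
def cert4qq_1 : List (List (List ℕ) × Cert) :=
  [([[2, 0, 0, 1]], ⟨1, [2, 2, 1, 1], [54, 1, 3, 36], [33, 51, 25, 3], [76, 11, 22, 62], [31, 76, 11, 72], [78, 59, 73, 11], [1, 3, 9, 27],
    [[35, 48, 16, 57], [38, 29, 25, 21], [77, 54, 5, 56], [0, 0, 0, 0]],
    ⟨[1, 4, 12, 27], [1, 4, 15, 29], [35, 24, 9, 27], [35, 50, 21, 4]⟩, ⟨[1, 3, 9, 36], [1, 5, 10, 29], [67, 75, 36, 27], [67, 11, 22, 80]⟩⟩),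
   ([[2, 1, 0, 1]], ⟨1, [2, 2, 1, 1], [54, 28, 3, 36], [79, 52, 30, 43], [59, 52, 54, 24], [12, 74, 52, 78], [73, 58, 40, 4], [1, 3, 9, 27],
    [[78, 49, 48, 16], [3, 21, 47, 30], [53, 25, 33, 5], [0, 0, 0, 0]],
    ⟨[1, 3, 9, 39], [1, 4, 12, 40], [67, 78, 72, 27], [67, 28, 42, 46]⟩, ⟨[1, 3, 12, 36], [1, 5, 9, 51], [77, 24, 72, 54], [77, 31, 72, 21]⟩⟩),
   ([[2, 2, 0, 1]], ⟨1, [2, 2, 1, 1], [54, 55, 3, 36], [56, 8, 48, 49], [76, 6, 20, 24], [12, 61, 6, 17], [47, 38, 4, 80], [1, 3, 9, 27],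
    [[55, 5, 39, 22], [42, 30, 57, 13], [63, 48, 76, 46], [0, 0, 0, 0]],
    ⟨[1, 3, 9, 27], [1, 4, 15, 44], [56, 33, 72, 54], [56, 8, 48, 49]⟩, ⟨[1, 3, 9, 27], [1, 3, 17, 48], [76, 6, 63, 54], [76, 6, 20, 24]⟩⟩),
   ([[2, 0, 1, 1]], ⟨1, [2, 2, 1, 1], [54, 1, 30, 36], [37, 25, 19, 57], [55, 66, 36, 12], [24, 55, 78, 48], [22, 70, 46, 54], [1, 3, 9, 27],
    [[36, 22, 10, 30], [75, 40, 47, 46], [31, 21, 40, 48], [0, 0, 0, 0]],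
    ⟨[1, 3, 9, 27], [1, 4, 10, 42], [37, 69, 63, 54], [37, 25, 19, 57]⟩, ⟨[1, 3, 9, 27], [1, 3, 9, 30], [55, 66, 36, 27], [55, 66, 36, 12]⟩⟩),
   ([[2, 1, 1, 1]], ⟨1, [2, 2, 1, 1], [54, 28, 30, 36], [80, 74, 59, 60], [65, 18, 7, 75], [42, 32, 66, 73], [63, 54, 79, 51], [1, 3, 9, 27],
    [[79, 80, 77, 33], [60, 45, 76, 70], [68, 7, 26, 32], [0, 0, 0, 0]],
    ⟨[1, 3, 9, 27], [1, 4, 16, 33], [80, 3, 9, 54], [80, 74, 59, 60]⟩, ⟨[1, 3, 12, 27], [1, 3, 11, 45], [68, 24, 63, 27], [68, 24, 7, 72]⟩⟩),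
   ([[2, 2, 1, 1]], ⟨1, [2, 2, 1, 1], [54, 55, 30, 36], [59, 64, 50, 24], [7, 46, 36, 39], [78, 76, 58, 75], [9, 4, 51, 29], [1, 3, 9, 27],
    [[58, 70, 41, 78], [53, 51, 43, 63], [47, 24, 39, 62], [0, 0, 0, 0]],
    ⟨[1, 3, 9, 27], [1, 5, 10, 33], [59, 39, 72, 27], [59, 64, 50, 24]⟩, ⟨[1, 3, 9, 27], [1, 4, 9, 48], [7, 48, 36, 27], [7, 46, 36, 39]⟩⟩),
   ([[2, 0, 2, 1]], ⟨1, [2, 2, 1, 1], [54, 1, 57, 36], [70, 67, 16, 39], [13, 75, 23, 48], [69, 13, 27, 44], [18, 33, 39, 2], [1, 3, 9, 27],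
    [[69, 64, 7, 12], [20, 44, 21, 47], [44, 5, 69, 19], [0, 0, 0, 0]],
    ⟨[1, 3, 9, 36], [1, 4, 10, 51], [61, 6, 36, 54], [61, 58, 16, 48]⟩, ⟨[1, 3, 9, 27], [1, 3, 17, 30], [13, 75, 72, 54], [13, 75, 23, 48]⟩⟩),
   ([[2, 1, 2, 1]], ⟨1, [2, 2, 1, 1], [54, 28, 57, 36], [68, 73, 24, 9], [70, 46, 18, 63], [45, 52, 64, 54], [21, 16, 74, 18], [1, 3, 9, 27],
    [[67, 79, 15, 63], [38, 22, 53, 69], [50, 36, 54, 80], [0, 0, 0, 0]],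
    ⟨[1, 3, 9, 27], [1, 5, 15, 45], [68, 30, 45, 27], [68, 73, 24, 9]⟩, ⟨[1, 3, 9, 27], [1, 4, 9, 45], [70, 66, 18, 54], [70, 46, 18, 63]⟩⟩),
   ([[2, 2, 2, 1]], ⟨1, [2, 2, 1, 1], [54, 55, 57, 36], [33, 15, 36, 44], [7, 76, 3, 66], [51, 49, 10, 69], [20, 38, 69, 25], [1, 3, 9, 27],
    [[35, 12, 27, 17], [4, 48, 35, 60], [40, 17, 14, 16], [0, 0, 0, 0]],
    ⟨[1, 4, 12, 36], [1, 4, 12, 35], [44, 57, 72, 27], [44, 11, 48, 46]⟩, ⟨[1, 3, 9, 27], [1, 4, 15, 33], [7, 78, 72, 27], [7, 76, 3, 66]⟩⟩),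
   ([[2, 0, 0, 2]], ⟨1, [2, 2, 1, 1], [54, 1, 3, 63], [6, 14, 41, 69], [52, 46, 50, 14], [25, 52, 46, 36], [65, 53, 28, 20], [1, 3, 9, 27],
    [[8, 11, 32, 42], [18, 41, 68, 69], [80, 1, 76, 21], [0, 0, 0, 0]],
    ⟨[1, 4, 9, 36], [1, 3, 12, 28], [8, 12, 36, 54], [8, 12, 48, 62]⟩, ⟨[1, 3, 9, 27], [1, 4, 11, 29], [52, 3, 63, 27], [52, 46, 50, 14]⟩⟩),
   ([[2, 1, 0, 2]], ⟨1, [2, 2, 1, 1], [54, 28, 3, 63], [22, 8, 48, 74], [7, 65, 13, 14], [25, 9, 65, 2], [59, 48, 63, 17], [1, 3, 9, 27],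
    [[21, 5, 39, 47], [67, 10, 1, 13], [77, 37, 4, 66], [0, 0, 0, 0]],
    ⟨[1, 3, 12, 27], [1, 5, 9, 41], [19, 24, 45, 27], [19, 8, 45, 80]⟩, ⟨[1, 3, 9, 36], [1, 5, 13, 38], [7, 60, 36, 54], [7, 56, 13, 14]⟩⟩),
   ([[2, 2, 0, 2]], ⟨1, [2, 2, 1, 1], [54, 55, 3, 63], [38, 61, 45, 44], [2, 18, 59, 41], [79, 78, 18, 45], [17, 60, 63, 26], [1, 3, 9, 27],
    [[37, 58, 36, 17], [15, 61, 80, 12], [75, 29, 34, 52], [0, 0, 0, 0]],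
    ⟨[1, 3, 9, 27], [1, 5, 9, 40], [38, 15, 45, 54], [38, 61, 45, 44]⟩, ⟨[1, 3, 12, 27], [1, 3, 16, 40], [2, 24, 72, 54], [2, 24, 59, 44]⟩⟩),
   ([[2, 0, 1, 2]], ⟨1, [2, 2, 1, 1], [54, 1, 30, 63], [66, 75, 15, 64], [77, 49, 37, 73], [38, 77, 14, 72], [13, 50, 24, 41], [1, 3, 9, 27],
    [[68, 72, 6, 37], [43, 38, 33, 1], [71, 16, 7, 12], [0, 0, 0, 0]],
    ⟨[1, 4, 12, 36], [1, 4, 17, 52], [61, 12, 72, 54], [61, 64, 11, 58]⟩, ⟨[1, 3, 9, 27], [1, 5, 17, 53], [77, 15, 9, 27], [77, 49, 37, 73]⟩⟩),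
   ([[2, 1, 1, 2]], ⟨1, [2, 2, 1, 1], [54, 28, 30, 63], [63, 65, 40, 13], [1, 58, 52, 8], [4, 6, 54, 47], [47, 46, 26, 18], [1, 3, 9, 27],
    [[65, 71, 31, 67], [74, 16, 48, 47], [5, 44, 47, 45], [0, 0, 0, 0]],
    ⟨[1, 3, 13, 27], [1, 3, 11, 38], [67, 66, 18, 54], [67, 66, 44, 17]⟩, ⟨[1, 3, 9, 27], [1, 4, 16, 35], [1, 57, 18, 54], [1, 58, 52, 8]⟩⟩),
   ([[2, 2, 1, 2]], ⟨1, [2, 2, 1, 1], [54, 55, 30, 63], [47, 21, 20, 60], [4, 30, 57, 23], [16, 11, 53, 64], [52, 54, 32, 67], [1, 3, 9, 27],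
    [[46, 18, 11, 33], [8, 16, 72, 39], [80, 46, 49, 11], [0, 0, 0, 0]],
    ⟨[1, 3, 9, 36], [1, 3, 10, 51], [29, 21, 72, 27], [29, 21, 20, 78]⟩, ⟨[1, 3, 9, 36], [1, 3, 12, 35], [4, 39, 36, 27], [4, 39, 75, 23]⟩⟩),
   ([[2, 0, 2, 2]], ⟨1, [2, 2, 1, 1], [54, 1, 57, 63], [33, 69, 49, 6], [30, 37, 34, 39], [78, 30, 7, 22], [5, 66, 72, 74], [1, 3, 9, 27],
    [[35, 66, 40, 60], [23, 1, 49, 24], [24, 27, 62, 29], [0, 0, 0, 0]],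
    ⟨[1, 4, 12, 27], [1, 4, 13, 28], [35, 39, 63, 54], [35, 65, 47, 8]⟩, ⟨[1, 4, 9, 27], [1, 4, 12, 46], [31, 15, 45, 27], [31, 37, 33, 40]⟩⟩),
   ([[2, 1, 2, 2]], ⟨1, [2, 2, 1, 1], [54, 28, 57, 63], [65, 19, 39, 32], [34, 12, 20, 15], [21, 40, 6, 14], [70, 44, 11, 77], [1, 3, 9, 27],
    [[64, 25, 30, 5], [74, 40, 39, 11], [66, 38, 69, 4], [0, 0, 0, 0]],
    ⟨[1, 3, 9, 30], [1, 5, 12, 46], [71, 60, 63, 27], [71, 19, 42, 35]⟩, ⟨[1, 3, 9, 36], [1, 3, 17, 51], [43, 12, 36, 27], [43, 12, 20, 15]⟩⟩),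
   ([[2, 2, 2, 2]], ⟨1, [2, 2, 1, 1], [54, 55, 57, 63], [57, 41, 75, 38], [16, 53, 45, 28], [56, 69, 25, 20], [25, 2, 61, 66], [1, 3, 9, 27],
    [[59, 38, 66, 11], [29, 35, 69, 72], [69, 33, 11, 34], [0, 0, 0, 0]],
    ⟨[1, 4, 9, 27], [1, 3, 10, 32], [58, 39, 18, 54], [58, 39, 76, 38]⟩, ⟨[1, 3, 9, 27], [1, 5, 9, 40], [16, 30, 45, 54], [16, 53, 45, 28]⟩⟩)]

theorem cert4qq_1_ok : certsOK 4 [2, 2, 1, 1] 1 cert4qq_1 = true := by decide +kernel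

/-- All certificates of this kind. -/
def cert4qq : List (List (List ℕ) × Cert) :=
  cert4qq_0 ++ cert4qq_1

theorem cert4qq_ok : certsOK 4 [2, 2, 1, 1] 1 cert4qq = true :=
  certsOK_append (cert4qq_0_ok) cert4qq_1_ok

/-- Certificates. -/
def cert4e_0 : List (List (List ℕ) × Cert) :=
  [([[2], [2], [2], [2]], ⟨2, [0, 1, 0, 2], [2, 6, 18, 54], [40, 69, 35, 23], [13, 70, 38, 68], [26, 50, 73, 52], [66, 20, 21, 49], [1, 3, 9, 27],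
    [[40, 69, 35, 23], [36, 54, 13, 33], [46, 16, 51, 44], [0, 0, 0, 0]],
    ⟨[1, 3, 9, 27], [1, 3, 11, 50], [40, 69, 63, 27], [40, 69, 35, 23]⟩, ⟨[1, 3, 9, 27], [1, 4, 14, 44], [13, 57, 72, 54], [13, 70, 38, 68]⟩⟩)]

theorem cert4e_0_ok : certsOK 4 [0, 1, 0, 2] 2 cert4e_0 = true := by decide +kernel

/-- All certificates of this kind. -/
def cert4e : List (List (List ℕ) × Cert) :=
  cert4e_0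

theorem cert4e_ok : certsOK 4 [0, 1, 0, 2] 2 cert4e = true :=
  cert4e_0_ok

end CfsgLib.OreSmallThree.Tab
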