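import Cfsg.Agent.Lib.OreSmallThree.TableDataChains
import Cfsg.Agent.Lib.OreSmallThree.TableDataFour
import Cfsg.Agent.Lib.OreSmallThree.TableDataFive
import Cfsg.Agent.Lib.OreSmallThree.TableDataSix
import Cfsg.Agent.Lib.OreSmallThree.TableDataSixMinus
import Cfsg.Agent.Lib.OreSmallThree.TableDataSeven

/-!
The tables of sizes four to eight over the field with three elements: every invariant chain of determinant one
has the commutator factorisations with the prescribed polynomials and determinants.
-/

set_option autoImplicit false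
set_option linter.unusedSectionVars false

namespace CfsgLib.OreSmallThree

open Matrix Polynomial CfsgLib.PSLCover CfsgLib.OreSmall

namespace Tab

/-- The codes of determinant one with at least `m` blocks. -/
def selAll (m : ℕ) (cd : List (List ℕ)) : Bool := decide (detC cd % 3 = 1) && decide (m ≤ cd.length)

/-- Those different from minus one. -/
def selGen (n m : ℕ) (cd : List (List ℕ)) : Bool := selAll m cd && !negB n cd

/-- Minus one. -/
def selNeg (n m : ℕ) (cd : List (List ℕ)) : Bool := selAll m cd && negB n cd

theorem covers_4qq : covers chains4 (selGen 4 0) cert4qq = true := by decide +kernel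
theorem covers_4e : covers chains4 (selNeg 4 0) cert4e = true := by decide +kernel
theorem covers_5qd : covers chains5 (selAll 0) cert5qd = true := by decide +kernel
theorem covers_5qc : covers chains5 (selAll 0) cert5qc = true := by decide +kernel
theorem covers_6qe : covers chains6 (selGen 6 0) cert6qe = true := by decide +kernel
theorem covers_6cd : covers chains6 (selAll 0) cert6cd = true := by decide +kernel
theorem covers_7qqc : covers chains7 (selAll 5) cert7qqc = true := by decide +kernel
theorem covers_7qqd : covers chains7 (selAll 5) cert7qqd = true := by decide +kernel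
theorem covers_8ee : covers chains8 (selNeg 8 6) cert8ee = true := by decide +kernel
theorem covers_8qcd : covers chains8 (selGen 8 6) cert8qcd = true := by decide +kernel
theorem covers_8qqe : covers chains8 (selGen 8 6) cert8qqe = true := by decide +kernel

theorem closeB_all : ∀ k, 1 ≤ k → k ≤ 8 → closeB chains k = true := by
  intro k h1 h8
  interval_cases k
  exacts [closeB_1, closeB_2, closeB_3, closeB_4, closeB_5, closeB_6, closeB_7, closeB_8]

theorem length_le : ∀ L : List (Blk (ZMod 3)), L.length ≤ size L
  | [] => le_rfl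
  | c :: L => by
    have := length_le L
    show L.length + 1 ≤ c.1 + 1 + size L
    omega

theorem block_le : ∀ L : List (Blk (ZMod 3)), ∀ c ∈ L, c.1 + L.length ≤ size L
  | [], c, h => by simp at h
  | b :: L, c, h => by
    have hL := length_le L
    show c.1 + (L.length + 1) ≤ b.1 + 1 + size L
    rcases List.mem_cons.1 h with rfl | h
    · omega
    · have := block_le L c h
      omega

theorem code_mem {L : List (Blk (ZMod 3))} (hi : IsInv L) (hd : (bdg L).det = 1) {n m : ℕ} (hn : n ≤ 8)
    (hm : n ≤ m + 2) (hs : size L = n) (hlen : n ≤ 6 ∨ m ≤ L.length) : code L ∈ chains.getD n [] := by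
  subst hs
  exact mem_table (by simp [chains, chains0]) closeB_all L hi (by rw [hd]; exact one_ne_zero) hn
    (hlen.imp id fun h c hc => by have := block_le L c hc; omega)

theorem selAll_code {L : List (Blk (ZMod 3))} (hd : (bdg L).det = 1) {m : ℕ} (hlen : m ≤ L.length) :
    selAll m (code L) = true := by
  rw [selAll, Bool.and_eq_true, decide_eq_true_iff, decide_eq_true_iff]
  refine ⟨?_, by simpa [code] using hlen⟩
  rw [detC_eq, ← Nat.cast_one] at hd
  exact (ZMod.natCast_eq_natCast_iff' _ _ 3).1 hd

theorem negB_code (L : List (Blk (ZMod 3))) : negB (size L) (code L) = true ↔ bdg L = -1 := by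
  rw [negB_iff, bdg_eq]

theorem hasD_of_table {P : List ℕ} {e : ℕ} {l : List (List (List ℕ) × Cert)} {T : List (List (List ℕ))}
    {sel : List (List ℕ) → Bool} {L : List (Blk (ZMod 3))} (hl : certsOK (size L) P e l = true)
    (hc : covers T sel l = true) (hT : code L ∈ T) (hsel : sel (code L) = true) :
    HasD (hornP P 1) (e : ZMod 3) (bdg L) := by
  rw [bdg_eq]
  exact certs_sound hl hc hT hsel

theorem two_eq : ((2 : ℕ) : ZMod 3) = -1 := rfl

theorem three_eq : (3 : (ZMod 3)[X]) = 0 := by
  rw [show (3 : (ZMod 3)[X]) = C (3 : ZMod 3) from (map_ofNat C 3).symm, show (3 : ZMod 3) = 0 from rfl, map_zero]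

end Tab

open Tab

set_option linter.unusedSimpArgs false

theorem table_four (L : List (Blk (ZMod 3))) (hi : IsInv L) (hd : (bdg L).det = 1) (hs : size L = 4) :
    Four (bdg L) := by
  have hT : code L ∈ chains4 := code_mem hi hd (n := 4) (m := 2) (by omega) le_rfl hs (Or.inl (by omega))
  have ha := selAll_code hd (Nat.zero_le L.length)
  by_cases hneg : bdg L = -1
  · refine Or.inr ⟨hneg, ?_⟩
    have h := hasD_of_table (hs ▸ cert4e_ok) covers_4e hT
      (by rw [selNeg, ha, ← hs, (negB_code L).2 hneg]; rfl)
    rw [two_eq] at h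
    convert h using 1
    simp only [hornP, qf, qe, cp, cm, Nat.cast_zero, Nat.cast_one, Nat.cast_ofNat, map_zero, map_one, map_ofNat]
    ring
  · refine Or.inl ?_
    have h := hasD_of_table (hs ▸ cert4qq_ok) covers_4qq hT
      (by rw [selGen, ha, ← hs, Bool.true_and, Bool.not_eq_true']; exact Bool.eq_false_iff.2 (mt (negB_code L).1 hneg))
    rw [Nat.cast_one] at h
    convert h using 1
    simp only [hornP, qf, Nat.cast_zero, Nat.cast_one, Nat.cast_ofNat, map_zero, map_one, map_ofNat]
    ring_nf
    reduce_mod_char

theorem table_five (L : List (Blk (ZMod 3))) (hi : IsInv L) (hd : (bdg L).det = 1) (hs : size L = 5) :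
    Five (bdg L) := by
  have hT : code L ∈ chains5 := code_mem hi hd (n := 5) (m := 3) (by omega) (by omega) hs (Or.inl (by omega))
  have ha := selAll_code hd (Nat.zero_le L.length)
  refine ⟨?_, ?_⟩
  ·
    have h := hasD_of_table (hs ▸ cert5qd_ok) covers_5qd hT
      (ha)
    rw [Nat.cast_one] at h
    convert h using 1
    simp only [hornP, qf, qe, cp, cm, Nat.cast_zero, Nat.cast_one, Nat.cast_ofNat, map_zero, map_one, map_ofNat]
    ring_nf
    reduce_mod_char
  ·
    have h := hasD_of_table (hs ▸ cert5qc_ok) covers_5qc hT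
      (ha)
    rw [two_eq] at h
    convert h using 1
    simp only [hornP, qf, qe, cp, cm, Nat.cast_zero, Nat.cast_one, Nat.cast_ofNat, map_zero, map_one, map_ofNat]
    ring_nf
    reduce_mod_char

theorem table_six (L : List (Blk (ZMod 3))) (hi : IsInv L) (hd : (bdg L).det = 1) (hs : size L = 6) :
    Six (bdg L) := by
  have hT : code L ∈ chains6 := code_mem hi hd (n := 6) (m := 4) (by omega) le_rfl hs (Or.inl le_rfl)
  have ha := selAll_code hd (Nat.zero_le L.length)
  refine ⟨?_, fun hneg => ?_⟩
  ·
    have h := hasD_of_table (hs ▸ cert6cd_ok) covers_6cd hT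
      (ha)
    rw [two_eq] at h
    convert h using 1
    simp only [hornP, qf, qe, cp, cm, Nat.cast_zero, Nat.cast_one, Nat.cast_ofNat, map_zero, map_one, map_ofNat]
    ring_nf
    reduce_mod_char
  ·
    have h := hasD_of_table (hs ▸ cert6qe_ok) covers_6qe hT
      (by rw [selGen, ha, ← hs, Bool.true_and, Bool.not_eq_true']; exact Bool.eq_false_iff.2 (mt (negB_code L).1 hneg))
    rw [Nat.cast_one] at h
    convert h using 1
    simp only [hornP, qf, qe, cp, cm, Nat.cast_zero, Nat.cast_one, Nat.cast_ofNat, map_zero, map_one, map_ofNat]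
    ring_nf
    reduce_mod_char

theorem table_seven (L : List (Blk (ZMod 3))) (hi : IsInv L) (hd : (bdg L).det = 1) (hs : size L = 7)
    (hlen : 5 ≤ L.length) : Seven (bdg L) := by
  have hT : code L ∈ chains7 := code_mem hi hd (n := 7) (m := 5) (by omega) le_rfl hs (Or.inr hlen)
  have ha := selAll_code hd hlen
  refine ⟨?_, ?_⟩
  ·
    have h := hasD_of_table (hs ▸ cert7qqc_ok) covers_7qqc hT
      (ha)
    rw [Nat.cast_one] at h
    convert h using 1
    simp only [hornP, qf, qe, cp, cm, Nat.cast_zero, Nat.cast_one, Nat.cast_ofNat, map_zero, map_one, map_ofNat]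
    ring_nf
    reduce_mod_char
  ·
    have h := hasD_of_table (hs ▸ cert7qqd_ok) covers_7qqd hT
      (ha)
    rw [two_eq] at h
    convert h using 1
    simp only [hornP, qf, qe, cp, cm, Nat.cast_zero, Nat.cast_one, Nat.cast_ofNat, map_zero, map_one, map_ofNat]
    ring_nf
    reduce_mod_char

theorem table_eight (L : List (Blk (ZMod 3))) (hi : IsInv L) (hd : (bdg L).det = 1) (hs : size L = 8)
    (hlen : 6 ≤ L.length) : Eight (bdg L) := by
  have hT : code L ∈ chains8 := code_mem hi hd (n := 8) (m := 6) le_rfl le_rfl hs (Or.inr hlen)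
  have ha := selAll_code hd hlen
  rw [Eight]
  split
  · rename_i hneg
    have h := hasD_of_table (hs ▸ cert8ee_ok) covers_8ee hT
      (by rw [selNeg, ha, ← hs, (negB_code L).2 hneg]; rfl)
    rw [Nat.cast_one] at h
    convert h using 1
    simp only [hornP, qf, qe, cp, cm, Nat.cast_zero, Nat.cast_one, Nat.cast_ofNat, map_zero, map_one, map_ofNat]
    ring_nf
    reduce_mod_char
  · rename_i hneg
    refine ⟨?_, ?_⟩
    ·
      have h := hasD_of_table (hs ▸ cert8qcd_ok) covers_8qcd hT
        (by rw [selGen, ha, ← hs, Bool.true_and, Bool.not_eq_true']; exact Bool.eq_false_iff.2 (mt (negB_code L).1 hneg))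
      rw [Nat.cast_one] at h
      convert h using 1
      simp only [hornP, qf, qe, cp, cm, Nat.cast_zero, Nat.cast_one, Nat.cast_ofNat, map_zero, map_one, map_ofNat]
      ring_nf
      reduce_mod_char
    ·
      have h := hasD_of_table (hs ▸ cert8qqe_ok) covers_8qqe hT
        (by rw [selGen, ha, ← hs, Bool.true_and, Bool.not_eq_true']; exact Bool.eq_false_iff.2 (mt (negB_code L).1 hneg))
      rw [two_eq] at h
      convert h using 1
      simp only [hornP, qf, qe, cp, cm, Nat.cast_zero, Nat.cast_one, Nat.cast_ofNat, map_zero, map_one, map_ofNat]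
      ring_nf
      reduce_mod_char

end CfsgLib.OreSmallThree
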