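import Cfsg.Agent.Lib.OreSmallThree.Chain
import Cfsg.Agent.Lib.OreSmallThree.Table
import Cfsg.Agent.Lib.OreSmallThree.Glue

/-!
Over the field with three elements every non-scalar matrix of determinant one and size at least four is a
commutator `s z s⁻¹ z⁻¹` with `det s = det z = 1` and `s` fixing no alternating form.
-/

set_option autoImplicit false
set_option linter.unusedSectionVars false

namespace CfsgLib.OreSmallThree

open Matrix Polynomial CfsgLib.PSLCover CfsgLib.OreSmall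

local notation "𝔽₃" => ZMod 3

variable {ι κ : Type*} [Fintype ι] [DecidableEq ι] [Fintype κ] [DecidableEq κ]

/-- A factorisation by an allowed polynomial. -/
def Fl (ε : 𝔽₃) (A : Matrix ι ι 𝔽₃) : Prop := ∃ P, Sel P ∧ HasD P ε A

theorem Fl.of_glSimE {ε : 𝔽₃} {A : Matrix ι ι 𝔽₃} {B : Matrix κ κ 𝔽₃} (h : GLSimE A B) (hA : Fl ε A) : Fl ε B := by
  obtain ⟨P, hP, h'⟩ := hA
  exact ⟨P, hP, h'.of_glSimE h⟩

theorem Fl.sum {ε η : 𝔽₃} {A : Matrix ι ι 𝔽₃} {B : Matrix κ κ 𝔽₃} (hA : Fl ε A) (hB : Fl η B) :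
    Fl (ε * η) (fromBlocks A 0 0 B) := by
  obtain ⟨P, hP, hA⟩ := hA
  obtain ⟨Q, hQ, hB⟩ := hB
  exact ⟨P * Q, hP.mul hQ, hA.sum hB⟩

theorem pm_of_ne : ∀ {ε : 𝔽₃}, ε ≠ 0 → ε = 1 ∨ ε = -1 := by decide

theorem pm_ne : ∀ {ε : 𝔽₃}, ε = 1 ∨ ε = -1 → ε ≠ 0 := by decide

theorem sq_one : ∀ {a : 𝔽₃}, a ≠ 0 → a * a = 1 := by decide

theorem sel_qf2 : Sel (qf ^ 2) := by
  rw [pow_two]
  exact Sel.qf.mul Sel.qf

theorem three_eq_zero : (3 : 𝔽₃[X]) = 0 := by
  rw [← map_ofNat Polynomial.C, show (3 : 𝔽₃) = 0 from rfl, map_zero]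

/-- In odd size the negative of `s` gives the other sign. -/
theorem HasD.neg {a : ℕ} (ha : Odd a) {P : 𝔽₃[X]} {ε : 𝔽₃} {A : Matrix (Fin a) (Fin a) 𝔽₃} (h : HasD P ε A) :
    HasD (P.comp (-X)) (-ε) A := by
  obtain ⟨s, z, e, hs, hd', hz⟩ := h
  refine ⟨-s, z, ?_, ?_, ?_, hz⟩
  · rw [← e]
    congr 1
    rw [inv_neg]
    simp [neg_mul, mul_neg]
  · rw [Units.val_neg, aeval_comp, map_neg, aeval_X, neg_neg, hs]
  · rw [Units.val_neg, Matrix.det_neg, Fintype.card_fin, ha.neg_one_pow, hd', neg_one_mul]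

/-- A matrix with a few generators is glued from a fixed cyclic head and some tail of determinant one. -/
theorem corner {n a b : ℕ} (A : Matrix (Fin n) (Fin n) 𝔽₃) (hA : A.det = 1) (L : List (Blk 𝔽₃))
    (hsim : GLSimE A (bdg L)) (hr : L.length ≤ b) (hn : a + b = n) (ha : 0 < a)
    (A1 : Matrix (Fin a) (Fin a) 𝔽₃) (w : Fin a → 𝔽₃) (hw : IsCyclicVec A1 w) (hd1 : A1.det = 1) {ε : 𝔽₃}
    (key : ∀ D : Matrix (Fin b) (Fin b) 𝔽₃, D.det = 1 → ∃ (η θ : 𝔽₃) (P Q : 𝔽₃[X]), η * θ = ε ∧ Sel P ∧ Sel Q ∧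
      IsCoprime P Q ∧ HasD P η A1 ∧ HasD Q θ D) : Fl ε A := by
  obtain ⟨X, Y, D, hXY⟩ := exists_corner A (Gen.of_glSimE hsim.symm (gen_blocks L)) hr hn ha hw
    (by rw [hd1]; exact one_ne_zero)
  have hD : D.det = 1 := by
    have h2 : fromBlocks A1 (A1 * Y) (X * A1) (X * A1 * Y + D) = fromBlocks A1 0 (X * A1) D * fromBlocks 1 Y 0 1 := by
      rw [fromBlocks_multiply]; simp
    have h3 := det_eq_of_sim hXY
    rw [h2, det_mul, det_fromBlocks_zero₁₂, det_fromBlocks_zero₂₁, hA, hd1, det_one, det_one, one_mul, one_mul,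
      mul_one] at h3
    exact h3.symm
  obtain ⟨η, θ, P, Q, rfl, hP, hQ, hPQ, h1, h2⟩ := key D hD
  exact Fl.of_glSimE hXY.symm ⟨P * Q, hP.mul hQ, h1.lu hPQ h2 X Y⟩

theorem four_any (D : Matrix (Fin 4) (Fin 4) 𝔽₃) (hD : D.det = 1) :
    HasD (qf ^ 2) 1 D ∨ (D = -1 ∧ HasD qe (-1) D) := by
  obtain ⟨L, hsim, hI⟩ := exists_inv D
  rcases table_four L hI ((det_eq_of_sim hsim).symm.trans hD) (size_eq_of_sim hsim).symm with h | ⟨he, h⟩
  · exact Or.inl (h.of_glSimE hsim.symm)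
  · refine Or.inr ⟨?_, h.of_glSimE hsim.symm⟩
    rw [← neg_one_smul 𝔽₃ (1 : Matrix (Fin 4) (Fin 4) 𝔽₃)]
    refine eq_smul_one_of_glSimE (κ := Fin (size L)) ?_
    rw [he] at hsim
    rwa [neg_one_smul]

theorem five_any (D : Matrix (Fin 5) (Fin 5) 𝔽₃) (hD : D.det = 1) : Five D := by
  obtain ⟨L, hsim, hI⟩ := exists_inv D
  obtain ⟨h1, h2⟩ := table_five L hI ((det_eq_of_sim hsim).symm.trans hD) (size_eq_of_sim hsim).symm
  exact ⟨h1.of_glSimE hsim.symm, h2.of_glSimE hsim.symm⟩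

/-- At most five blocks and size at least eight. -/
theorem corner_five {n : ℕ} (hn : 8 ≤ n) (A : Matrix (Fin n) (Fin n) 𝔽₃) (hA : A.det = 1) (L : List (Blk 𝔽₃))
    (hsim : GLSimE A (bdg L)) (hr : L.length ≤ 5) {ε : 𝔽₃} (hε : ε ≠ 0) : Fl ε A := by
  obtain ⟨A1, w, h1, hw, hd1⟩ := hd_spec (a := n - 5) (by omega) (Or.inl rfl : (1 : 𝔽₃) = 1 ∨ (1 : 𝔽₃) = -1)
  refine corner (a := n - 5) A hA L hsim hr (by omega) (by omega) A1 w hw hd1 fun D hD => ?_
  rcases pm_of_ne hε with rfl | rfl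
  · exact ⟨1, 1, _, _, one_mul 1, Sel.hd _ (by omega) _ (Or.inl rfl), Sel.qf.mul Sel.cm,
      (hd_cop (by omega) (Or.inl rfl)).2.2.2, h1, (five_any D hD).1⟩
  · exact ⟨1, -1, _, _, one_mul _, Sel.hd _ (by omega) _ (Or.inl rfl), Sel.qf.mul Sel.cp,
      (hd_cop (by omega) (Or.inl rfl)).2.2.1, h1, (five_any D hD).2⟩

/-- At most four blocks and size seven. -/
theorem corner_four (A : Matrix (Fin 7) (Fin 7) 𝔽₃) (hA : A.det = 1) (L : List (Blk 𝔽₃))
    (hsim : GLSimE A (bdg L)) (hr : L.length ≤ 4) {ε : 𝔽₃} (hε : ε ≠ 0) : Fl ε A := by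
  obtain ⟨A1, w, h1, hw, hd1⟩ := hd_spec (a := 3) le_rfl (Or.inl rfl : (1 : 𝔽₃) = 1 ∨ (1 : 𝔽₃) = -1)
  have h1' : HasD (hd 3 (-1)) (-1) A1 := by
    refine (HasD.neg ⟨1, rfl⟩ h1).mono ⟨-1, ?_⟩
    rw [hd_three_neg, hd_three_one]
    simp only [add_comp, mul_comp, pow_comp, X_comp, ofNat_comp, one_comp]
    linear_combination (X ^ 2 + 1 : 𝔽₃[X]) * three_eq_zero
  have head : ∀ {η : 𝔽₃}, η ≠ 0 → HasD (hd 3 η) η A1 := fun {η} hη => by
    rcases pm_of_ne hη with rfl | rfl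
    exacts [h1, h1']
  refine corner (a := 3) A hA L hsim hr rfl (by omega) A1 w hw hd1 fun D hD => ?_
  rcases four_any D hD with h | ⟨-, h⟩
  · exact ⟨ε, 1, _, _, mul_one ε, Sel.hd _ le_rfl _ (pm_of_ne hε), sel_qf2, (hd_cop le_rfl (pm_of_ne hε)).1,
      head hε, h⟩
  · have hη : -ε ≠ 0 := neg_ne_zero.2 hε
    exact ⟨-ε, -1, _, _, neg_mul_neg ε 1 ▸ mul_one ε, Sel.hd _ le_rfl _ (pm_of_ne hη), Sel.qe,
      (hd_cop le_rfl (pm_of_ne hη)).2.1, head hη, h⟩

theorem blockDet_ne {L : List (Blk 𝔽₃)} (h : (bdg L).det = 1) {c : Blk 𝔽₃} (hc : c ∈ L) : blockDet c ≠ 0 := by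
  intro h0
  rw [det_bdg, List.prod_eq_zero (List.mem_map.2 ⟨c, hc, h0⟩)] at h
  exact zero_ne_one h

theorem fl_append {n : ℕ} (A : Matrix (Fin n) (Fin n) 𝔽₃) {L S R : List (Blk 𝔽₃)} (hsim : GLSimE A (bdg L))
    (hp : L.Perm (S ++ R)) {θ η : 𝔽₃} (hS : Fl θ (bdg S)) (hR : Fl η (bdg R)) : Fl (θ * η) A :=
  Fl.of_glSimE ((hsim.trans ((bdg_perm hp).trans (bdg_append S R))).symm) (hS.sum hR)

theorem five_lemma : ∀ {P : 𝔽₃}, P = (-P) ^ 5 → P = 0 := by decide

/-- For at least six blocks and size at least nine: two summands of determinant one. -/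
theorem exists_split {n : ℕ} (hn : 9 ≤ n) {L : List (Blk 𝔽₃)} (hI : IsInv L) (hd1 : (bdg L).det = 1)
    (hsize : n = size L) (hr : 6 ≤ L.length) (hns : ∀ a : 𝔽₃, bdg L ≠ a • 1) :
    ∃ S R : List (Blk 𝔽₃), L.Perm (S ++ R) ∧ 4 ≤ size S ∧ size S < n ∧ 5 ≤ size R ∧ size R < n ∧
      (bdg S).det = 1 ∧ (bdg R).det = 1 ∧ ∀ a : 𝔽₃, bdg R ≠ a • 1 := by
  classical
  obtain ⟨c, L', rfl⟩ : ∃ c L', L = c :: L' := by
    cases L with
    | nil => simp at hr
    | cons c L' => exact ⟨c, L', rfl⟩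
  have hc : 1 ≤ c.1 := hI.head_big hns
  have hlen : 5 ≤ L'.length := by simpa using hr
  have hne : ∀ b ∈ c :: L', blockDet b ≠ 0 := fun b hb => blockDet_ne hd1 hb
  have finish : ∀ S R : List (Blk 𝔽₃), (c :: L').Perm (S ++ R) → 4 ≤ size S → 5 ≤ size R → (bdg S).det = 1 →
      c ∈ R → ∃ S R : List (Blk 𝔽₃), (c :: L').Perm (S ++ R) ∧ 4 ≤ size S ∧ size S < n ∧ 5 ≤ size R ∧ size R < n ∧
        (bdg S).det = 1 ∧ (bdg R).det = 1 ∧ ∀ a : 𝔽₃, bdg R ≠ a • 1 := by
    intro S R hp h4 h5 hS hcR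
    have hs : n = size S + size R := by rw [hsize, size_perm hp, size_append_eq]
    refine ⟨S, R, hp, h4, by omega, h5, by omega, hS, ?_, nonscalar_of_mem hcR hc⟩
    have := det_eq_of_sim ((bdg_perm hp).trans (bdg_append S R))
    rwa [hd1, det_fromBlocks_zero₂₁, hS, one_mul, eq_comm] at this
  obtain ⟨b, L'', rfl⟩ : ∃ b L'', L' = b :: L'' := by
    cases L' with
    | nil => simp at hlen
    | cons b L'' => exact ⟨b, L'', rfl⟩
  have hbc : b.1 ≤ c.1 := hI.head_max List.mem_cons_self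
  have hI' : IsInv (b :: L'') := hI.2
  rcases Nat.lt_or_ge c.1 3 with hc3 | hc4
  · rcases Nat.lt_or_ge b.1 2 with hb | hb
    · -- the other blocks have size at most two
      have hle : ∀ e ∈ b :: L'', e.1 ≤ 1 := fun e he => by
        rcases List.mem_cons.1 he with rfl | he'
        · omega
        · have := hI'.head_max he'; omega
      obtain ⟨d, k, S, hsub, hk, hSd, hkd⟩ : ∃ (d k : ℕ) (S : List (Blk 𝔽₃)), S.Sublist (b :: L'') ∧ S.length = k ∧
          (∀ e ∈ S, e.1 = d) ∧ ((d = 1 ∧ k = 2) ∨ (d = 0 ∧ k = 4)) := by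
        have hcnt : (b :: L'').length = ((b :: L'').filter fun e => e.1 == 1).length +
            ((b :: L'').filter fun e => e.1 == 0).length := by
          have h := List.length_eq_countP_add_countP (fun e : Blk 𝔽₃ => e.1 == 1) (l := b :: L'')
          rw [h, List.countP_eq_length_filter, List.countP_eq_length_filter]
          congr 2
          refine List.filter_congr fun e he => ?_
          rcases Nat.le_one_iff_eq_zero_or_eq_one.1 (hle e he) with h' | h' <;> simp [h']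
        rcases Nat.lt_or_ge ((b :: L'').filter fun e => e.1 == 1).length 2 with h1 | h1
        · refine ⟨0, 4, ((b :: L'').filter fun e => e.1 == 0).take 4,
            (List.take_sublist _ _).trans List.filter_sublist, ?_, fun e he => ?_, Or.inr ⟨rfl, rfl⟩⟩
          · rw [List.length_take]; omega
          · simpa using (List.mem_filter.1 (List.mem_of_mem_take he)).2
        · refine ⟨1, 2, ((b :: L'').filter fun e => e.1 == 1).take 2,
            (List.take_sublist _ _).trans List.filter_sublist, ?_, fun e he => ?_, Or.inl ⟨rfl, rfl⟩⟩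
          · rw [List.length_take]; omega
          · simpa using (List.mem_filter.1 (List.mem_of_mem_take he)).2
      obtain ⟨R, hR⟩ := hsub.exists_perm_append
      obtain ⟨e0, he0⟩ : ∃ e0, e0 ∈ S :=
        List.exists_mem_of_length_pos (by rcases hkd with ⟨-, rfl⟩ | ⟨-, rfl⟩ <;> omega)
      have hrep : S = List.replicate k e0 := List.eq_replicate_iff.2 ⟨hk, fun e he =>
        hI'.eq_of_mem (hsub.subset he0) (hsub.subset he) ((hSd e he).trans (hSd e0 he0).symm)⟩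
      have hsz : size S = 4 := by
        rw [hrep, size_eq_sum, List.map_replicate, List.sum_replicate, hSd e0 he0, smul_eq_mul]
        rcases hkd with ⟨rfl, rfl⟩ | ⟨rfl, rfl⟩ <;> rfl
      refine finish S (c :: R) ((hR.cons c).trans List.perm_middle.symm) hsz.ge ?_ ?_ List.mem_cons_self
      · have h := size_perm ((hR.cons c).trans List.perm_middle.symm)
        rw [size_append_eq, ← hsize] at h
        omega
      · have h2 := sq_one (hne e0 (List.mem_cons_of_mem _ (hsub.subset he0)))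
        rw [det_bdg, hrep, List.map_replicate, List.prod_replicate]
        rcases hkd with ⟨-, rfl⟩ | ⟨-, rfl⟩
        · rw [pow_two, h2]
        · rw [show (4 : ℕ) = 2 * 2 from rfl, pow_mul, sq (blockDet e0), h2, one_pow]
    · -- two blocks of size three
      have hcb : c = b := (hI.eq_of_mem List.mem_cons_self (List.mem_cons_of_mem _ List.mem_cons_self)
        (by omega : b.1 = c.1)).symm
      subst hcb
      refine finish L'' [c, c] ((List.perm_append_comm (l₁ := [c, c]) (l₂ := L''))) ?_ ?_ ?_ List.mem_cons_self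
      · have := length_le_size L''
        simp only [List.length_cons] at hlen
        omega
      · show 5 ≤ (c.1 + 1) + ((c.1 + 1) + 0)
        omega
      · have h := hd1
        rw [det_bdg, List.map_cons, List.map_cons, List.prod_cons, List.prod_cons, ← mul_assoc,
          sq_one (hne c List.mem_cons_self), one_mul, ← det_bdg] at h
        exact h
  · -- a block of size at least four
    set T := (b :: L'').take 5 with hT
    have hT5 : T.length = 5 := by rw [hT, List.length_take]; omega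
    set P := (T.map blockDet).prod with hP
    have hTne : ∀ e ∈ T, blockDet e ≠ 0 := fun e he => hne e (List.mem_cons_of_mem _ (List.mem_of_mem_take he))
    obtain ⟨j, hj, hjP⟩ : ∃ j ∈ T, blockDet j = P := by
      by_contra hno
      push Not at hno
      have hP0 : P ≠ 0 := List.prod_ne_zero fun h => by
        obtain ⟨e, he, he0⟩ := List.mem_map.1 h
        exact hTne e he he0
      refine hP0 (five_lemma ?_)
      have hrep : T.map blockDet = List.replicate 5 (-P) := by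
        refine List.eq_replicate_iff.2 ⟨by rw [List.length_map, hT5], fun x hx => ?_⟩
        obtain ⟨e, he, rfl⟩ := List.mem_map.1 hx
        have key : ∀ x y : 𝔽₃, x ≠ 0 → y ≠ 0 → x ≠ y → x = -y := by decide
        exact key _ _ (hTne e he) hP0 (hno e he)
      conv_lhs => rw [hP, hrep, List.prod_replicate]
    have hTj : T.Perm (j :: T.erase j) := List.perm_cons_erase hj
    have hL : (c :: b :: L'').Perm (T.erase j ++ (c :: j :: (b :: L'').drop 5)) := by
      conv_lhs => rw [← List.take_append_drop 5 (b :: L'')]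
      refine ((hTj.append_right _).cons c).trans ?_
      exact ((List.perm_append_comm (l₁ := [c, j]) (l₂ := T.erase j)).append_right _).trans
        (List.Perm.of_eq (by simp))
    refine finish _ _ hL ?_ ?_ ?_ List.mem_cons_self
    · have := length_le_size (T.erase j)
      rw [List.length_erase_of_mem hj] at this
      omega
    · show 5 ≤ (c.1 + 1) + ((j.1 + 1) + size ((b :: L'').drop 5))
      omega
    · have h : P = blockDet j * ((T.erase j).map blockDet).prod := by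
        rw [hP, (hTj.map blockDet).prod_eq, List.map_cons, List.prod_cons]
      rw [det_bdg]
      rw [← hjP] at h
      exact mul_left_cancel₀ (hTne j hj) (h.symm.trans (mul_one _).symm)

theorem scalar_reindex {a b n : ℕ} (h : a + b = n) (c : 𝔽₃) :
    GLSimE (fromBlocks (c • (1 : Matrix (Fin a) (Fin a) 𝔽₃)) 0 0 (c • (1 : Matrix (Fin b) (Fin b) 𝔽₃)))
      (c • (1 : Matrix (Fin n) (Fin n) 𝔽₃)) := by
  have h1 := GLSimE.of_reindex (finSumFinEquiv.trans (finCongr h))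
    (c • (1 : Matrix (Fin a ⊕ Fin b) (Fin a ⊕ Fin b) 𝔽₃))
  rw [smul_one_reindex] at h1
  rwa [← fromBlocks_one, fromBlocks_smul, smul_zero, smul_zero] at h1

/-- The induction. -/
theorem fl_main : ∀ {n : ℕ}, 4 ≤ n → ∀ A : Matrix (Fin n) (Fin n) 𝔽₃, A.det = 1 → (∃ ε : 𝔽₃, Fl ε A) ∧
    ((∀ a : 𝔽₃, A ≠ a • 1) → Fl 1 A ∧ (5 ≤ n → ∀ ε : 𝔽₃, ε ≠ 0 → Fl ε A)) := by
  intro n
  induction n using Nat.strong_induction_on with
  | _ n ih =>
  intro hn4 A hA
  have hflex : (∀ ε : 𝔽₃, ε ≠ 0 → Fl ε A) → (∃ ε : 𝔽₃, Fl ε A) ∧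
      ((∀ a : 𝔽₃, A ≠ a • 1) → Fl 1 A ∧ (5 ≤ n → ∀ ε : 𝔽₃, ε ≠ 0 → Fl ε A)) :=
    fun h => ⟨⟨1, h 1 one_ne_zero⟩, fun _ => ⟨h 1 one_ne_zero, fun _ => h⟩⟩
  obtain ⟨L, hsim, hI⟩ := exists_inv A
  have hd1 : (bdg L).det = 1 := (det_eq_of_sim hsim).symm.trans hA
  have hsize : n = size L := size_eq_of_sim hsim
  have hneg : bdg L = -1 → A = (-1 : 𝔽₃) • 1 := fun h =>
    eq_smul_one_of_glSimE (κ := Fin (size L)) (by rw [neg_one_smul, ← h]; exact hsim)
  rcases Nat.lt_or_ge n 9 with hn9 | hn9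
  · interval_cases n
    · rcases table_four L hI hd1 hsize.symm with h | ⟨he, h⟩
      · exact ⟨⟨1, _, sel_qf2, h.of_glSimE hsim.symm⟩, fun _ => ⟨⟨_, sel_qf2, h.of_glSimE hsim.symm⟩, by omega⟩⟩
      · exact ⟨⟨-1, _, Sel.qe, h.of_glSimE hsim.symm⟩, fun hns => absurd (hneg he) (hns _)⟩
    · obtain ⟨h1, h2⟩ := table_five L hI hd1 hsize.symm
      refine hflex fun ε hε => ?_
      rcases pm_of_ne hε with rfl | rfl
      exacts [⟨_, Sel.qf.mul Sel.cm, h1.of_glSimE hsim.symm⟩, ⟨_, Sel.qf.mul Sel.cp, h2.of_glSimE hsim.symm⟩]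
    · obtain ⟨h2, h1⟩ := table_six L hI hd1 hsize.symm
      have hm : Fl (-1) A := ⟨_, Sel.cp.mul Sel.cm, h2.of_glSimE hsim.symm⟩
      refine ⟨⟨-1, hm⟩, fun hns => ?_⟩
      have hp : Fl 1 A := ⟨_, Sel.qf.mul Sel.qe, (h1 fun he => hns _ (hneg he)).of_glSimE hsim.symm⟩
      refine ⟨hp, fun _ ε hε => ?_⟩
      rcases pm_of_ne hε with rfl | rfl
      exacts [hp, hm]
    · refine hflex fun ε hε => ?_
      rcases Nat.lt_or_ge L.length 5 with hr | hr
      · exact corner_four A hA L hsim (by omega) hε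
      obtain ⟨h1, h2⟩ := table_seven L hI hd1 hsize.symm hr
      rcases pm_of_ne hε with rfl | rfl
      exacts [⟨_, sel_qf2.mul Sel.cp, h1.of_glSimE hsim.symm⟩, ⟨_, sel_qf2.mul Sel.cm, h2.of_glSimE hsim.symm⟩]
    · rcases Nat.lt_or_ge L.length 6 with hr | hr
      · exact hflex fun ε hε => corner_five le_rfl A hA L hsim (by omega) hε
      have h := table_eight L hI hd1 hsize.symm hr
      unfold Eight at h
      split_ifs at h with he
      · exact ⟨⟨1, _, Sel.qe.mul Sel.qe, h.of_glSimE hsim.symm⟩, fun hns => absurd (hneg he) (hns _)⟩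
      · refine hflex fun ε hε => ?_
        rcases pm_of_ne hε with rfl | rfl
        exacts [⟨_, (Sel.qf.mul Sel.cp).mul Sel.cm, h.1.of_glSimE hsim.symm⟩,
          ⟨_, sel_qf2.mul Sel.qe, h.2.of_glSimE hsim.symm⟩]
  rcases Nat.lt_or_ge L.length 6 with hr | hr
  · exact hflex fun ε hε => corner_five (by omega) A hA L hsim (by omega) hε
  by_cases hs : ∃ a : 𝔽₃, A = a • 1
  · obtain ⟨a, rfl⟩ := hs
    refine ⟨?_, fun hns => absurd rfl (hns a)⟩
    rw [Matrix.det_smul, Fintype.card_fin, det_one, mul_one] at hA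
    have ha : a ≠ 0 := fun h => by rw [h, zero_pow (by omega)] at hA; exact zero_ne_one hA
    have h4 : a ^ 4 = 1 := by rw [show (4 : ℕ) = 2 * 2 from rfl, pow_mul, sq a, sq_one ha, one_pow]
    have hm : a ^ (n - 4) = 1 := by rw [show n = 4 + (n - 4) by omega, pow_add, h4, one_mul] at hA; exact hA
    obtain ⟨θ, h1⟩ := (ih 4 (by omega) le_rfl (a • 1) (by simp [Matrix.det_smul, h4])).1
    obtain ⟨η, h2⟩ := (ih (n - 4) (by omega) (by omega) (a • 1) (by simp [Matrix.det_smul, hm])).1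
    exact ⟨θ * η, Fl.of_glSimE (scalar_reindex (by omega) a) (h1.sum h2)⟩
  push Not at hs
  have hns : ∀ a : 𝔽₃, bdg L ≠ a • 1 := fun a h =>
    hs a (eq_smul_one_of_glSimE (κ := Fin (size L)) (by rw [← h]; exact hsim))
  obtain ⟨S, R, hp, hS4, hSn, hR5, hRn, hSd, hRd, hRns⟩ := exists_split hn9 hI hd1 hsize hr hns
  obtain ⟨θ, hS⟩ := (ih _ hSn hS4 _ hSd).1
  have hθ : θ ≠ 0 := by
    obtain ⟨P, -, s, z, -, -, hds, -⟩ := hS
    rw [← hds]
    exact ((Matrix.isUnit_iff_isUnit_det _).1 (Units.isUnit s)).ne_zero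
  refine hflex fun ε hε => ?_
  have hR := ((ih _ hRn (by omega) _ hRd).2 hRns).2 hR5 (θ * ε) (mul_ne_zero hθ hε)
  have := fl_append A hsim hp hS hR
  rwa [← mul_assoc, sq_one hθ, one_mul] at this

variable {F : Type*} [Field F]

/-- The factorisation used in the orthogonal groups over the field with three elements. -/
theorem exists_fac_three (hF : Nat.card F = 3) {n : ℕ} (hn : 4 ≤ n) (A : Matrix (Fin n) (Fin n) F) (hdet : A.det = 1)
    (hA : CfsgLib.ClassSquare.Nonscalar A) : ∃ s z : GL (Fin n) F,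
      A = (s : Matrix (Fin n) (Fin n) F) * z * (s⁻¹ : GL (Fin n) F) * (z⁻¹ : GL (Fin n) F) ∧
        IsSquare (s : Matrix (Fin n) (Fin n) F).det ∧ IsSquare (z : Matrix (Fin n) (Fin n) F).det ∧
        CfsgLib.OreLevi.OrthPlus.TwistFree (s : Matrix (Fin n) (Fin n) F) ∧ ∀ l : Matrix (Fin 2) (Fin n) F,
          (l = l * (s : Matrix (Fin n) (Fin n) F) ∨ l * (s : Matrix (Fin n) (Fin n) F)ᵀ = l) → l = 0 :=
  exists_fac_of_hasD hF A hdet hA fun A0 hd0 hns => ((fl_main hn A0 hd0).2 hns).1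

end CfsgLib.OreSmallThree
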