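import Cfsg.Agent.Lib.OreSmallThree.Basic

/-!
A checker for commutator certificates over the field with three elements. Matrices are lists of rows, each row
a number with the entries as its digits in base three.
-/

set_option autoImplicit false
set_option linter.unusedSectionVars false

namespace CfsgLib.OreSmallThree.Tab

open Matrix Polynomial CfsgLib.PSLCover CfsgLib.OreSmall

/-- A digit in base three. -/
def dig (r j : ℕ) : ℕ := r / 3 ^ j % 3

/-- An entry. -/
def ent (M : List ℕ) (i j : ℕ) : ℕ := dig (M.getD i 0) j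

/-- The matrix of a list of rows. -/
def toM (n : ℕ) (M : List ℕ) : Matrix (Fin n) (Fin n) (ZMod 3) := Matrix.of fun i j => (ent M i j : ZMod 3)

/-- Finite sum. -/
def sumTo : ℕ → (ℕ → ℕ) → ℕ
  | 0, _ => 0
  | k + 1, f => sumTo k f + f k

/-- Finite product. -/
def prodTo : ℕ → (ℕ → ℕ) → ℕ
  | 0, _ => 1
  | k + 1, f => prodTo k f * f k

theorem sumTo_eq (f : ℕ → ℕ) : ∀ n, sumTo n f = ∑ i : Fin n, f i
  | 0 => rfl
  | k + 1 => by rw [Fin.sum_univ_castSucc, sumTo, sumTo_eq f k]; rfl

theorem prodTo_eq (f : ℕ → ℕ) : ∀ n, prodTo n f = ∏ i : Fin n, f i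
  | 0 => rfl
  | k + 1 => by rw [Fin.prod_univ_castSucc, prodTo, prodTo_eq f k]; rfl

/-- All indices below `n`. -/
def allTo (n : ℕ) (p : ℕ → Bool) : Bool := (List.range n).all p

theorem allTo_apply {n : ℕ} {p : ℕ → Bool} (h : allTo n p = true) {i : ℕ} (hi : i < n) : p i = true :=
  List.all_eq_true.1 h i (List.mem_range.2 hi)

theorem cast_mod (x : ℕ) : ((x % 3 : ℕ) : ZMod 3) = x := ZMod.natCast_mod x 3

/-- Product check. -/
def mulOK (n : ℕ) (A B C : List ℕ) : Bool :=
  allTo n fun i => allTo n fun j => (sumTo n fun k => ent A i k * ent B k j) % 3 == ent C i j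

theorem mulOK_sound {n : ℕ} {A B C : List ℕ} (h : mulOK n A B C = true) : toM n A * toM n B = toM n C := by
  ext i j
  have := beq_iff_eq.1 (allTo_apply (allTo_apply h i.2) j.2)
  show _ = (ent C i j : ZMod 3)
  rw [← this, cast_mod, sumTo_eq, Nat.cast_sum]
  simp [Matrix.mul_apply, toM]

/-- Identity check. -/
def idOK (n : ℕ) (M : List ℕ) : Bool := allTo n fun i => allTo n fun j => ent M i j == if i = j then 1 else 0

theorem idOK_sound {n : ℕ} {M : List ℕ} (h : idOK n M = true) : toM n M = 1 := by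
  ext i j
  have := beq_iff_eq.1 (allTo_apply (allTo_apply h i.2) j.2)
  simp [toM, this, Matrix.one_apply, Fin.ext_iff, apply_ite]

/-- One Horner step. -/
def stepOK (n : ℕ) (H s : List ℕ) (c : ℕ) (H' : List ℕ) : Bool :=
  allTo n fun i => allTo n fun j =>
    ((sumTo n fun k => ent H i k * ent s k j) + if i = j then c else 0) % 3 == ent H' i j

theorem stepOK_sound {n : ℕ} {H s H' : List ℕ} {c : ℕ} (h : stepOK n H s c H' = true) :
    toM n H' = toM n H * toM n s + (c : ZMod 3) • (1 : Matrix (Fin n) (Fin n) (ZMod 3)) := by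
  ext i j
  have := beq_iff_eq.1 (allTo_apply (allTo_apply h i.2) j.2)
  show (ent H' i j : ZMod 3) = _
  rw [← this, cast_mod, Nat.cast_add, sumTo_eq, Nat.cast_sum]
  simp [Matrix.mul_apply, toM, Matrix.one_apply, Fin.ext_iff, apply_ite (Nat.cast : ℕ → ZMod 3)]

/-- Horner check: the last matrix is zero. -/
def hornOK (n : ℕ) (s : List ℕ) : List ℕ → List ℕ → List (List ℕ) → Bool
  | [], H, [] => allTo n fun i => allTo n fun j => ent H i j == 0
  | c :: cs, H, H' :: Hs => stepOK n H s c H' && hornOK n s cs H' Hs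
  | _, _, _ => false

/-- The polynomial of a coefficient list, highest first. -/
noncomputable def hornP {F : Type*} [Field F] : List ℕ → F[X] → F[X]
  | [], p => p
  | c :: cs, p => hornP cs (p * X + C (c : F))

theorem hornOK_sound {n : ℕ} {s : List ℕ} : ∀ (cs : List ℕ) (H : List ℕ) (Hs : List (List ℕ)) (p : (ZMod 3)[X]),
    hornOK n s cs H Hs = true → aeval (toM n s) p = toM n H → aeval (toM n s) (hornP cs p) = 0
  | [], H, [], p, h, e => by
    rw [hornP, e]
    ext i j
    simp [toM, beq_iff_eq.1 (allTo_apply (allTo_apply h i.2) j.2)]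
  | [], H, _ :: _, p, h, e => by simp [hornOK] at h
  | _ :: _, H, [], p, h, e => by simp [hornOK] at h
  | c :: cs, H, H' :: Hs, p, h, e => by
    rw [hornOK, Bool.and_eq_true] at h
    refine hornOK_sound cs H' Hs _ h.2 ?_
    rw [stepOK_sound h.1, map_add, map_mul, aeval_X, e, aeval_C, Algebra.algebraMap_eq_smul_one]

/-- Unit lower triangular. -/
def lowOK (n : ℕ) (M : List ℕ) : Bool :=
  allTo n fun i => allTo n fun j => if i < j then ent M i j == 0 else if i = j then ent M i j == 1 else true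

theorem lowOK_det {n : ℕ} {M : List ℕ} (h : lowOK n M = true) : (toM n M).det = 1 := by
  have e : ∀ i j : Fin n, (i < j → toM n M i j = 0) ∧ (i = j → toM n M i j = 1) := fun i j => by
    have := allTo_apply (allTo_apply h i.2) j.2
    constructor
    · intro hij
      rw [if_pos (Fin.lt_def.1 hij)] at this
      simp [toM, beq_iff_eq.1 this]
    · rintro rfl
      rw [if_neg (lt_irrefl _), if_pos rfl] at this
      simp [toM, beq_iff_eq.1 this]
  rw [Matrix.det_of_isLowerTriangular _ fun i j hij => (e i j).1 hij]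
  exact Finset.prod_eq_one fun i _ => (e i i).2 rfl

/-- Upper triangular. -/
def upOK (n : ℕ) (M : List ℕ) : Bool := allTo n fun i => allTo n fun j => if j < i then ent M i j == 0 else true

theorem upOK_det {n : ℕ} {M : List ℕ} (h : upOK n M = true) :
    (toM n M).det = (prodTo n fun i => ent M i i : ℕ) := by
  rw [Matrix.det_of_isUpperTriangular, prodTo_eq, Nat.cast_prod]
  · rfl
  · intro i j hij
    have := allTo_apply (allTo_apply h i.2) j.2
    have hij' : (j : ℕ) < (i : ℕ) := hij
    rw [if_pos hij'] at this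
    simp [toM, beq_iff_eq.1 this]

/-- Determinant data: a matrix `g` with `g * M = L * U`. -/
structure DetData where
  Mu : List ℕ
  Lo : List ℕ
  Up : List ℕ
  Pr : List ℕ

/-- Determinant check. -/
def detOK (n : ℕ) (g : List ℕ) (D : DetData) (d : ℕ) : Bool :=
  mulOK n g D.Mu D.Pr && mulOK n D.Lo D.Up D.Pr && lowOK n D.Mu && lowOK n D.Lo && upOK n D.Up &&
    (prodTo n fun i => ent D.Up i i) % 3 == d

theorem detOK_sound {n : ℕ} {g : List ℕ} {D : DetData} {d : ℕ} (h : detOK n g D d = true) :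
    (toM n g).det = (d : ZMod 3) := by
  simp only [detOK, Bool.and_eq_true, beq_iff_eq] at h
  obtain ⟨⟨⟨⟨⟨h1, h2⟩, h3⟩, h4⟩, h5⟩, h6⟩ := h
  have e := congrArg Matrix.det ((mulOK_sound h1).trans (mulOK_sound h2).symm)
  rw [det_mul, det_mul, lowOK_det h3, lowOK_det h4, upOK_det h5, mul_one, one_mul] at e
  rw [e, ← cast_mod, h6]

/-- A certificate. -/
structure Cert where
  eps : ℕ
  poly : List ℕ
  A : List ℕ
  s : List ℕ
  z : List ℕ
  W : List ℕ
  V : List ℕ
  I : List ℕ
  H : List (List ℕ)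
  ds : DetData
  dz : DetData

/-- The check of a certificate, given the entries of the matrix. -/
def check (n : ℕ) (E : ℕ → ℕ → ℕ) (c : Cert) : Bool :=
  allTo n (fun i => allTo n fun j => ent c.A i j == E i j % 3) && mulOK n c.A c.z c.W && mulOK n c.s c.z c.V &&
    mulOK n c.W c.s c.V && idOK n c.I && hornOK n c.s c.poly c.I c.H && detOK n c.s c.ds c.eps &&
    detOK n c.z c.dz 1 && (c.eps % 3 != 0)

/-- The matrix of an entry function. -/
def entM (n : ℕ) (E : ℕ → ℕ → ℕ) : Matrix (Fin n) (Fin n) (ZMod 3) := Matrix.of fun i j => (E i j : ZMod 3)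

theorem check_sound {n : ℕ} {E : ℕ → ℕ → ℕ} {c : Cert} (h : check n E c = true) :
    HasD (hornP c.poly 1) (c.eps : ZMod 3) (entM n E) := by
  simp only [check, Bool.and_eq_true, bne_iff_ne] at h
  obtain ⟨⟨⟨⟨⟨⟨⟨⟨hA, hW⟩, hV⟩, hWs⟩, hI⟩, hH⟩, hds⟩, hdz⟩, he⟩ := h
  have hAe : toM n c.A = entM n E := by
    ext i j
    have := beq_iff_eq.1 (allTo_apply (allTo_apply hA i.2) j.2)
    simp [toM, entM, this, cast_mod]
  have hds' := detOK_sound hds
  have hdz' := detOK_sound hdz
  have he0 : (c.eps : ZMod 3) ≠ 0 := fun e => he (by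
    have := congrArg ZMod.val e
    simpa [ZMod.val_natCast] using this)
  let s : GL (Fin n) (ZMod 3) := GeneralLinearGroup.mkOfDetNeZero (toM n c.s) (hds' ▸ he0)
  let z : GL (Fin n) (ZMod 3) := GeneralLinearGroup.mkOfDetNeZero (toM n c.z) (by rw [hdz', Nat.cast_one]; exact one_ne_zero)
  refine ⟨s, z, ?_, hornOK_sound c.poly c.I c.H 1 hH (by rw [map_one, idOK_sound hI]), hds', by rw [← Nat.cast_one, ← hdz']; rfl⟩
  have e : entM n E * (z : Matrix (Fin n) (Fin n) (ZMod 3)) * s = (s : Matrix (Fin n) (Fin n) (ZMod 3)) * z := by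
    show entM n E * toM n c.z * toM n c.s = toM n c.s * toM n c.z
    rw [← hAe, mulOK_sound hW, mulOK_sound hWs, mulOK_sound hV]
  rw [Units.val_mul, Units.val_mul, Units.val_mul, ← e]
  simp only [Matrix.mul_assoc]
  rw [← Matrix.mul_assoc (s : Matrix (Fin n) (Fin n) (ZMod 3)), ← Units.val_mul, mul_inv_cancel, Units.val_one,
    Matrix.one_mul, ← Units.val_mul, mul_inv_cancel, Units.val_one, Matrix.mul_one]

end CfsgLib.OreSmallThree.Tab
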