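import Cfsg.Agent.Lib.OreSmallThree.TableEnum

/-!
The invariant chains up to size eight (found by a script, checked by `closeB`).
-/

set_option autoImplicit false
set_option maxRecDepth 100000

namespace CfsgLib.OreSmallThree.Tab

/-- The chains of size 0. -/
def chains0 : List (List (List ℕ)) :=
  [[]]

/-- The chains of size 1. -/
def chains1 : List (List (List ℕ)) :=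
  [[[1]], [[2]]]

/-- The chains of size 2. -/
def chains2 : List (List (List ℕ)) :=
  [[[1], [1]], [[2], [2]], [[1, 0]], [[2, 0]], [[1, 1]], [[2, 1]],
   [[1, 2]], [[2, 2]]]

/-- The chains of size 3. -/
def chains3 : List (List (List ℕ)) :=
  [[[1], [1], [1]], [[2], [2], [2]], [[1, 0], [1]], [[1, 0], [2]], [[2, 1], [2]], [[2, 2], [1]],
   [[1, 0, 0]], [[2, 0, 0]], [[1, 1, 0]], [[2, 1, 0]], [[1, 2, 0]], [[2, 2, 0]],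
   [[1, 0, 1]], [[2, 0, 1]], [[1, 1, 1]], [[2, 1, 1]], [[1, 2, 1]], [[2, 2, 1]],
   [[1, 0, 2]], [[2, 0, 2]], [[1, 1, 2]], [[2, 1, 2]], [[1, 2, 2]], [[2, 2, 2]]]

/-- The chains of size 4. -/
def chains4 : List (List (List ℕ)) :=
  [[[1], [1], [1], [1]], [[2], [2], [2], [2]], [[1, 0], [1], [1]], [[1, 0], [2], [2]], [[1, 0], [1, 0]], [[2, 0], [2, 0]],
   [[1, 1], [1, 1]], [[2, 1], [2], [2]], [[2, 1], [2, 1]], [[1, 2], [1, 2]], [[2, 2], [1], [1]], [[2, 2], [2, 2]],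
   [[1, 0, 0], [1]], [[2, 0, 0], [2]], [[1, 2, 0], [2]], [[2, 2, 0], [1]], [[1, 0, 1], [2]], [[2, 1, 1], [1]],
   [[2, 1, 1], [2]], [[1, 2, 1], [1]], [[2, 0, 2], [1]], [[1, 1, 2], [1]], [[1, 1, 2], [2]], [[2, 2, 2], [2]],
   [[1, 0, 0, 0]], [[2, 0, 0, 0]], [[1, 1, 0, 0]], [[2, 1, 0, 0]], [[1, 2, 0, 0]], [[2, 2, 0, 0]],
   [[1, 0, 1, 0]], [[2, 0, 1, 0]], [[1, 1, 1, 0]], [[2, 1, 1, 0]], [[1, 2, 1, 0]], [[2, 2, 1, 0]],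
   [[1, 0, 2, 0]], [[2, 0, 2, 0]], [[1, 1, 2, 0]], [[2, 1, 2, 0]], [[1, 2, 2, 0]], [[2, 2, 2, 0]],
   [[1, 0, 0, 1]], [[2, 0, 0, 1]], [[1, 1, 0, 1]], [[2, 1, 0, 1]], [[1, 2, 0, 1]], [[2, 2, 0, 1]],
   [[1, 0, 1, 1]], [[2, 0, 1, 1]], [[1, 1, 1, 1]], [[2, 1, 1, 1]], [[1, 2, 1, 1]], [[2, 2, 1, 1]],
   [[1, 0, 2, 1]], [[2, 0, 2, 1]], [[1, 1, 2, 1]], [[2, 1, 2, 1]], [[1, 2, 2, 1]], [[2, 2, 2, 1]],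
   [[1, 0, 0, 2]], [[2, 0, 0, 2]], [[1, 1, 0, 2]], [[2, 1, 0, 2]], [[1, 2, 0, 2]], [[2, 2, 0, 2]],
   [[1, 0, 1, 2]], [[2, 0, 1, 2]], [[1, 1, 1, 2]], [[2, 1, 1, 2]], [[1, 2, 1, 2]], [[2, 2, 1, 2]],
   [[1, 0, 2, 2]], [[2, 0, 2, 2]], [[1, 1, 2, 2]], [[2, 1, 2, 2]], [[1, 2, 2, 2]], [[2, 2, 2, 2]]]

/-- The chains of size 5. -/
def chains5 : List (List (List ℕ)) :=
  [[[1], [1], [1], [1], [1]], [[2], [2], [2], [2], [2]], [[1, 0], [1], [1], [1]], [[1, 0], [2], [2], [2]], [[1, 0], [1, 0], [1]], [[1, 0], [1, 0], [2]],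
   [[2, 1], [2], [2], [2]], [[2, 1], [2, 1], [2]], [[2, 2], [1], [1], [1]], [[2, 2], [2, 2], [1]], [[1, 0, 0], [1], [1]], [[1, 0, 0], [2, 2]],
   [[2, 0, 0], [2], [2]], [[2, 0, 0], [2, 1]], [[1, 2, 0], [2], [2]], [[1, 2, 0], [1, 1]], [[2, 2, 0], [1], [1]], [[2, 2, 0], [1, 2]],
   [[1, 0, 1], [2], [2]], [[1, 0, 1], [1, 2]], [[2, 1, 1], [1], [1]], [[2, 1, 1], [2], [2]], [[2, 1, 1], [1, 0]], [[2, 1, 1], [2, 2]],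
   [[1, 2, 1], [1], [1]], [[1, 2, 1], [2, 0]], [[2, 0, 2], [1], [1]], [[2, 0, 2], [1, 1]], [[1, 1, 2], [1], [1]], [[1, 1, 2], [2], [2]],
   [[1, 1, 2], [1, 0]], [[1, 1, 2], [2, 1]], [[2, 2, 2], [2], [2]], [[2, 2, 2], [2, 0]], [[1, 0, 0, 0], [1]], [[1, 0, 0, 0], [2]],
   [[2, 1, 0, 0], [2]], [[2, 2, 0, 0], [1]], [[1, 1, 1, 0], [2]], [[2, 1, 1, 0], [1]], [[1, 2, 1, 0], [1]], [[2, 2, 1, 0], [2]],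
   [[2, 0, 2, 0], [1]], [[2, 0, 2, 0], [2]], [[1, 1, 2, 0], [1]], [[1, 2, 2, 0], [2]], [[2, 0, 0, 1], [2]], [[2, 1, 0, 1], [1]],
   [[1, 2, 0, 1], [1]], [[1, 2, 0, 1], [2]], [[1, 0, 1, 1], [2]], [[2, 0, 1, 1], [1]], [[1, 1, 1, 1], [1]], [[2, 1, 1, 1], [2]],
   [[1, 0, 2, 1], [1]], [[1, 1, 2, 1], [2]], [[2, 2, 2, 1], [1]], [[2, 2, 2, 1], [2]], [[2, 0, 0, 2], [1]], [[1, 1, 0, 2], [1]],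
   [[1, 1, 0, 2], [2]], [[2, 2, 0, 2], [2]], [[1, 0, 1, 2], [1]], [[2, 0, 1, 2], [2]], [[1, 2, 1, 2], [2]], [[2, 2, 1, 2], [1]],
   [[1, 0, 2, 2], [2]], [[2, 1, 2, 2], [1]], [[2, 1, 2, 2], [2]], [[1, 2, 2, 2], [1]], [[1, 0, 0, 0, 0]], [[2, 0, 0, 0, 0]],
   [[1, 1, 0, 0, 0]], [[2, 1, 0, 0, 0]], [[1, 2, 0, 0, 0]], [[2, 2, 0, 0, 0]], [[1, 0, 1, 0, 0]], [[2, 0, 1, 0, 0]],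
   [[1, 1, 1, 0, 0]], [[2, 1, 1, 0, 0]], [[1, 2, 1, 0, 0]], [[2, 2, 1, 0, 0]], [[1, 0, 2, 0, 0]], [[2, 0, 2, 0, 0]],
   [[1, 1, 2, 0, 0]], [[2, 1, 2, 0, 0]], [[1, 2, 2, 0, 0]], [[2, 2, 2, 0, 0]], [[1, 0, 0, 1, 0]], [[2, 0, 0, 1, 0]],
   [[1, 1, 0, 1, 0]], [[2, 1, 0, 1, 0]], [[1, 2, 0, 1, 0]], [[2, 2, 0, 1, 0]], [[1, 0, 1, 1, 0]], [[2, 0, 1, 1, 0]],
   [[1, 1, 1, 1, 0]], [[2, 1, 1, 1, 0]], [[1, 2, 1, 1, 0]], [[2, 2, 1, 1, 0]], [[1, 0, 2, 1, 0]], [[2, 0, 2, 1, 0]],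
   [[1, 1, 2, 1, 0]], [[2, 1, 2, 1, 0]], [[1, 2, 2, 1, 0]], [[2, 2, 2, 1, 0]], [[1, 0, 0, 2, 0]], [[2, 0, 0, 2, 0]],
   [[1, 1, 0, 2, 0]], [[2, 1, 0, 2, 0]], [[1, 2, 0, 2, 0]], [[2, 2, 0, 2, 0]], [[1, 0, 1, 2, 0]], [[2, 0, 1, 2, 0]],
   [[1, 1, 1, 2, 0]], [[2, 1, 1, 2, 0]], [[1, 2, 1, 2, 0]], [[2, 2, 1, 2, 0]], [[1, 0, 2, 2, 0]], [[2, 0, 2, 2, 0]],
   [[1, 1, 2, 2, 0]], [[2, 1, 2, 2, 0]], [[1, 2, 2, 2, 0]], [[2, 2, 2, 2, 0]], [[1, 0, 0, 0, 1]], [[2, 0, 0, 0, 1]],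
   [[1, 1, 0, 0, 1]], [[2, 1, 0, 0, 1]], [[1, 2, 0, 0, 1]], [[2, 2, 0, 0, 1]], [[1, 0, 1, 0, 1]], [[2, 0, 1, 0, 1]],
   [[1, 1, 1, 0, 1]], [[2, 1, 1, 0, 1]], [[1, 2, 1, 0, 1]], [[2, 2, 1, 0, 1]], [[1, 0, 2, 0, 1]], [[2, 0, 2, 0, 1]],
   [[1, 1, 2, 0, 1]], [[2, 1, 2, 0, 1]], [[1, 2, 2, 0, 1]], [[2, 2, 2, 0, 1]], [[1, 0, 0, 1, 1]], [[2, 0, 0, 1, 1]],
   [[1, 1, 0, 1, 1]], [[2, 1, 0, 1, 1]], [[1, 2, 0, 1, 1]], [[2, 2, 0, 1, 1]], [[1, 0, 1, 1, 1]], [[2, 0, 1, 1, 1]],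
   [[1, 1, 1, 1, 1]], [[2, 1, 1, 1, 1]], [[1, 2, 1, 1, 1]], [[2, 2, 1, 1, 1]], [[1, 0, 2, 1, 1]], [[2, 0, 2, 1, 1]],
   [[1, 1, 2, 1, 1]], [[2, 1, 2, 1, 1]], [[1, 2, 2, 1, 1]], [[2, 2, 2, 1, 1]], [[1, 0, 0, 2, 1]], [[2, 0, 0, 2, 1]],
   [[1, 1, 0, 2, 1]], [[2, 1, 0, 2, 1]], [[1, 2, 0, 2, 1]], [[2, 2, 0, 2, 1]], [[1, 0, 1, 2, 1]], [[2, 0, 1, 2, 1]],
   [[1, 1, 1, 2, 1]], [[2, 1, 1, 2, 1]], [[1, 2, 1, 2, 1]], [[2, 2, 1, 2, 1]], [[1, 0, 2, 2, 1]], [[2, 0, 2, 2, 1]],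
   [[1, 1, 2, 2, 1]], [[2, 1, 2, 2, 1]], [[1, 2, 2, 2, 1]], [[2, 2, 2, 2, 1]], [[1, 0, 0, 0, 2]], [[2, 0, 0, 0, 2]],
   [[1, 1, 0, 0, 2]], [[2, 1, 0, 0, 2]], [[1, 2, 0, 0, 2]], [[2, 2, 0, 0, 2]], [[1, 0, 1, 0, 2]], [[2, 0, 1, 0, 2]],
   [[1, 1, 1, 0, 2]], [[2, 1, 1, 0, 2]], [[1, 2, 1, 0, 2]], [[2, 2, 1, 0, 2]], [[1, 0, 2, 0, 2]], [[2, 0, 2, 0, 2]],
   [[1, 1, 2, 0, 2]], [[2, 1, 2, 0, 2]], [[1, 2, 2, 0, 2]], [[2, 2, 2, 0, 2]], [[1, 0, 0, 1, 2]], [[2, 0, 0, 1, 2]],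
   [[1, 1, 0, 1, 2]], [[2, 1, 0, 1, 2]], [[1, 2, 0, 1, 2]], [[2, 2, 0, 1, 2]], [[1, 0, 1, 1, 2]], [[2, 0, 1, 1, 2]],
   [[1, 1, 1, 1, 2]], [[2, 1, 1, 1, 2]], [[1, 2, 1, 1, 2]], [[2, 2, 1, 1, 2]], [[1, 0, 2, 1, 2]], [[2, 0, 2, 1, 2]],
   [[1, 1, 2, 1, 2]], [[2, 1, 2, 1, 2]], [[1, 2, 2, 1, 2]], [[2, 2, 2, 1, 2]], [[1, 0, 0, 2, 2]], [[2, 0, 0, 2, 2]],
   [[1, 1, 0, 2, 2]], [[2, 1, 0, 2, 2]], [[1, 2, 0, 2, 2]], [[2, 2, 0, 2, 2]], [[1, 0, 1, 2, 2]], [[2, 0, 1, 2, 2]],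
   [[1, 1, 1, 2, 2]], [[2, 1, 1, 2, 2]], [[1, 2, 1, 2, 2]], [[2, 2, 1, 2, 2]], [[1, 0, 2, 2, 2]], [[2, 0, 2, 2, 2]],
   [[1, 1, 2, 2, 2]], [[2, 1, 2, 2, 2]], [[1, 2, 2, 2, 2]], [[2, 2, 2, 2, 2]]]

/-- The chains of size 6. -/
def chains6 : List (List (List ℕ)) :=
  [[[1], [1], [1], [1], [1], [1]], [[2], [2], [2], [2], [2], [2]], [[1, 0], [1], [1], [1], [1]], [[1, 0], [2], [2], [2], [2]], [[1, 0], [1, 0], [1], [1]], [[1, 0], [1, 0], [2], [2]],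
   [[1, 0], [1, 0], [1, 0]], [[2, 0], [2, 0], [2, 0]], [[1, 1], [1, 1], [1, 1]], [[2, 1], [2], [2], [2], [2]], [[2, 1], [2, 1], [2], [2]], [[2, 1], [2, 1], [2, 1]],
   [[1, 2], [1, 2], [1, 2]], [[2, 2], [1], [1], [1], [1]], [[2, 2], [2, 2], [1], [1]], [[2, 2], [2, 2], [2, 2]], [[1, 0, 0], [1], [1], [1]], [[1, 0, 0], [2, 2], [1]],
   [[1, 0, 0], [1, 0, 0]], [[2, 0, 0], [2], [2], [2]], [[2, 0, 0], [2, 1], [2]], [[2, 0, 0], [2, 0, 0]], [[1, 1, 0], [1, 1, 0]], [[2, 1, 0], [2, 1, 0]],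
   [[1, 2, 0], [2], [2], [2]], [[1, 2, 0], [1, 2, 0]], [[2, 2, 0], [1], [1], [1]], [[2, 2, 0], [2, 2, 0]], [[1, 0, 1], [2], [2], [2]], [[1, 0, 1], [1, 0, 1]],
   [[2, 0, 1], [2, 0, 1]], [[1, 1, 1], [1, 1, 1]], [[2, 1, 1], [1], [1], [1]], [[2, 1, 1], [2], [2], [2]], [[2, 1, 1], [1, 0], [1]], [[2, 1, 1], [1, 0], [2]],
   [[2, 1, 1], [2, 2], [1]], [[2, 1, 1], [2, 1, 1]], [[1, 2, 1], [1], [1], [1]], [[1, 2, 1], [1, 2, 1]], [[2, 2, 1], [2, 2, 1]], [[1, 0, 2], [1, 0, 2]],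
   [[2, 0, 2], [1], [1], [1]], [[2, 0, 2], [2, 0, 2]], [[1, 1, 2], [1], [1], [1]], [[1, 1, 2], [2], [2], [2]], [[1, 1, 2], [1, 0], [1]], [[1, 1, 2], [1, 0], [2]],
   [[1, 1, 2], [2, 1], [2]], [[1, 1, 2], [1, 1, 2]], [[2, 1, 2], [2, 1, 2]], [[1, 2, 2], [1, 2, 2]], [[2, 2, 2], [2], [2], [2]], [[2, 2, 2], [2, 2, 2]],
   [[1, 0, 0, 0], [1], [1]], [[1, 0, 0, 0], [2], [2]], [[1, 0, 0, 0], [1, 0]], [[1, 0, 0, 0], [2, 0]], [[2, 0, 0, 0], [1, 1]], [[2, 0, 0, 0], [1, 2]],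
   [[2, 1, 0, 0], [2], [2]], [[2, 2, 0, 0], [1], [1]], [[2, 0, 1, 0], [2, 0]], [[1, 1, 1, 0], [2], [2]], [[1, 1, 1, 0], [2, 1]], [[1, 1, 1, 0], [1, 2]],
   [[2, 1, 1, 0], [1], [1]], [[1, 2, 1, 0], [1], [1]], [[1, 2, 1, 0], [1, 1]], [[1, 2, 1, 0], [2, 2]], [[2, 2, 1, 0], [2], [2]], [[2, 0, 2, 0], [1], [1]],
   [[2, 0, 2, 0], [2], [2]], [[2, 0, 2, 0], [1, 0]], [[2, 0, 2, 0], [2, 1]], [[2, 0, 2, 0], [2, 2]], [[1, 1, 2, 0], [1], [1]], [[1, 2, 2, 0], [2], [2]],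
   [[2, 0, 0, 1], [2], [2]], [[1, 1, 0, 1], [2, 0]], [[1, 1, 0, 1], [1, 1]], [[2, 1, 0, 1], [1], [1]], [[2, 1, 0, 1], [2, 2]], [[1, 2, 0, 1], [1], [1]],
   [[1, 2, 0, 1], [2], [2]], [[1, 2, 0, 1], [1, 0]], [[1, 2, 0, 1], [2, 1]], [[1, 0, 1, 1], [2], [2]], [[2, 0, 1, 1], [1], [1]], [[1, 1, 1, 1], [1], [1]],
   [[2, 1, 1, 1], [2], [2]], [[2, 1, 1, 1], [2, 0]], [[2, 1, 1, 1], [2, 1]], [[2, 2, 1, 1], [1, 2]], [[1, 0, 2, 1], [1], [1]], [[1, 0, 2, 1], [1, 2]],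
   [[1, 0, 2, 1], [2, 2]], [[1, 1, 2, 1], [2], [2]], [[2, 2, 2, 1], [1], [1]], [[2, 2, 2, 1], [2], [2]], [[2, 2, 2, 1], [1, 0]], [[2, 2, 2, 1], [1, 1]],
   [[2, 0, 0, 2], [1], [1]], [[1, 1, 0, 2], [1], [1]], [[1, 1, 0, 2], [2], [2]], [[1, 1, 0, 2], [1, 0]], [[1, 1, 0, 2], [2, 2]], [[1, 2, 0, 2], [2, 0]],
   [[1, 2, 0, 2], [1, 2]], [[2, 2, 0, 2], [2], [2]], [[2, 2, 0, 2], [2, 1]], [[1, 0, 1, 2], [1], [1]], [[2, 0, 1, 2], [2], [2]], [[2, 1, 1, 2], [1, 1]],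
   [[1, 2, 1, 2], [2], [2]], [[2, 2, 1, 2], [1], [1]], [[2, 2, 1, 2], [2, 0]], [[2, 2, 1, 2], [2, 2]], [[1, 0, 2, 2], [2], [2]], [[1, 0, 2, 2], [1, 1]],
   [[1, 0, 2, 2], [2, 1]], [[2, 1, 2, 2], [1], [1]], [[2, 1, 2, 2], [2], [2]], [[2, 1, 2, 2], [1, 0]], [[2, 1, 2, 2], [1, 2]], [[1, 2, 2, 2], [1], [1]],
   [[1, 0, 0, 0, 0], [1]], [[2, 0, 0, 0, 0], [2]], [[1, 2, 0, 0, 0], [2]], [[2, 2, 0, 0, 0], [1]], [[1, 0, 1, 0, 0], [2]], [[2, 1, 1, 0, 0], [1]],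
   [[2, 1, 1, 0, 0], [2]], [[1, 2, 1, 0, 0], [1]], [[2, 0, 2, 0, 0], [1]], [[1, 1, 2, 0, 0], [1]], [[1, 1, 2, 0, 0], [2]], [[2, 2, 2, 0, 0], [2]],
   [[1, 1, 0, 1, 0], [2]], [[2, 1, 0, 1, 0], [1]], [[1, 2, 0, 1, 0], [1]], [[2, 2, 0, 1, 0], [2]], [[2, 0, 1, 1, 0], [1]], [[2, 0, 1, 1, 0], [2]],
   [[1, 1, 1, 1, 0], [1]], [[1, 2, 1, 1, 0], [2]], [[1, 0, 2, 1, 0], [1]], [[1, 0, 2, 1, 0], [2]], [[2, 1, 2, 1, 0], [2]], [[2, 2, 2, 1, 0], [1]],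
   [[1, 0, 0, 2, 0], [2]], [[2, 0, 0, 2, 0], [1]], [[1, 1, 0, 2, 0], [1]], [[2, 1, 0, 2, 0], [2]], [[1, 0, 1, 2, 0], [1]], [[1, 1, 1, 2, 0], [2]],
   [[2, 2, 1, 2, 0], [1]], [[2, 2, 1, 2, 0], [2]], [[2, 0, 2, 2, 0], [2]], [[2, 1, 2, 2, 0], [1]], [[1, 2, 2, 2, 0], [1]], [[1, 2, 2, 2, 0], [2]],
   [[1, 0, 0, 0, 1], [2]], [[2, 1, 0, 0, 1], [1]], [[2, 1, 0, 0, 1], [2]], [[1, 2, 0, 0, 1], [1]], [[2, 0, 1, 0, 1], [1]], [[1, 1, 1, 0, 1], [1]],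
   [[1, 1, 1, 0, 1], [2]], [[2, 2, 1, 0, 1], [2]], [[1, 0, 2, 0, 1], [1]], [[2, 0, 2, 0, 1], [2]], [[1, 2, 2, 0, 1], [2]], [[2, 2, 2, 0, 1], [1]],
   [[2, 0, 0, 1, 1], [1]], [[2, 0, 0, 1, 1], [2]], [[1, 1, 0, 1, 1], [1]], [[1, 2, 0, 1, 1], [2]], [[1, 0, 1, 1, 1], [1]], [[1, 0, 1, 1, 1], [2]],
   [[2, 1, 1, 1, 1], [2]], [[2, 2, 1, 1, 1], [1]], [[1, 1, 2, 1, 1], [2]], [[2, 1, 2, 1, 1], [1]], [[1, 2, 2, 1, 1], [1]], [[2, 2, 2, 1, 1], [2]],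
   [[1, 0, 0, 2, 1], [1]], [[1, 1, 0, 2, 1], [2]], [[2, 2, 0, 2, 1], [1]], [[2, 2, 0, 2, 1], [2]], [[2, 0, 1, 2, 1], [2]], [[2, 1, 1, 2, 1], [1]],
   [[1, 2, 1, 2, 1], [1]], [[1, 2, 1, 2, 1], [2]], [[1, 0, 2, 2, 1], [2]], [[2, 0, 2, 2, 1], [1]], [[1, 1, 2, 2, 1], [1]], [[2, 1, 2, 2, 1], [2]],
   [[2, 0, 0, 0, 2], [1]], [[1, 1, 0, 0, 2], [1]], [[1, 1, 0, 0, 2], [2]], [[2, 2, 0, 0, 2], [2]], [[1, 0, 1, 0, 2], [1]], [[2, 0, 1, 0, 2], [2]],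
   [[1, 2, 1, 0, 2], [2]], [[2, 2, 1, 0, 2], [1]], [[1, 0, 2, 0, 2], [2]], [[2, 1, 2, 0, 2], [1]], [[2, 1, 2, 0, 2], [2]], [[1, 2, 2, 0, 2], [1]],
   [[1, 0, 0, 1, 2], [1]], [[1, 0, 0, 1, 2], [2]], [[2, 1, 0, 1, 2], [2]], [[2, 2, 0, 1, 2], [1]], [[1, 1, 1, 1, 2], [2]], [[2, 1, 1, 1, 2], [1]],
   [[1, 2, 1, 1, 2], [1]], [[2, 2, 1, 1, 2], [2]], [[2, 0, 2, 1, 2], [1]], [[2, 0, 2, 1, 2], [2]], [[1, 1, 2, 1, 2], [1]], [[1, 2, 2, 1, 2], [2]],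
   [[2, 0, 0, 2, 2], [2]], [[2, 1, 0, 2, 2], [1]], [[1, 2, 0, 2, 2], [1]], [[1, 2, 0, 2, 2], [2]], [[1, 0, 1, 2, 2], [2]], [[2, 0, 1, 2, 2], [1]],
   [[1, 1, 1, 2, 2], [1]], [[2, 1, 1, 2, 2], [2]], [[1, 0, 2, 2, 2], [1]], [[1, 1, 2, 2, 2], [2]], [[2, 2, 2, 2, 2], [1]], [[2, 2, 2, 2, 2], [2]],
   [[1, 0, 0, 0, 0, 0]], [[2, 0, 0, 0, 0, 0]], [[1, 1, 0, 0, 0, 0]], [[2, 1, 0, 0, 0, 0]], [[1, 2, 0, 0, 0, 0]], [[2, 2, 0, 0, 0, 0]],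
   [[1, 0, 1, 0, 0, 0]], [[2, 0, 1, 0, 0, 0]], [[1, 1, 1, 0, 0, 0]], [[2, 1, 1, 0, 0, 0]], [[1, 2, 1, 0, 0, 0]], [[2, 2, 1, 0, 0, 0]],
   [[1, 0, 2, 0, 0, 0]], [[2, 0, 2, 0, 0, 0]], [[1, 1, 2, 0, 0, 0]], [[2, 1, 2, 0, 0, 0]], [[1, 2, 2, 0, 0, 0]], [[2, 2, 2, 0, 0, 0]],
   [[1, 0, 0, 1, 0, 0]], [[2, 0, 0, 1, 0, 0]], [[1, 1, 0, 1, 0, 0]], [[2, 1, 0, 1, 0, 0]], [[1, 2, 0, 1, 0, 0]], [[2, 2, 0, 1, 0, 0]],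
   [[1, 0, 1, 1, 0, 0]], [[2, 0, 1, 1, 0, 0]], [[1, 1, 1, 1, 0, 0]], [[2, 1, 1, 1, 0, 0]], [[1, 2, 1, 1, 0, 0]], [[2, 2, 1, 1, 0, 0]],
   [[1, 0, 2, 1, 0, 0]], [[2, 0, 2, 1, 0, 0]], [[1, 1, 2, 1, 0, 0]], [[2, 1, 2, 1, 0, 0]], [[1, 2, 2, 1, 0, 0]], [[2, 2, 2, 1, 0, 0]],
   [[1, 0, 0, 2, 0, 0]], [[2, 0, 0, 2, 0, 0]], [[1, 1, 0, 2, 0, 0]], [[2, 1, 0, 2, 0, 0]], [[1, 2, 0, 2, 0, 0]], [[2, 2, 0, 2, 0, 0]],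
   [[1, 0, 1, 2, 0, 0]], [[2, 0, 1, 2, 0, 0]], [[1, 1, 1, 2, 0, 0]], [[2, 1, 1, 2, 0, 0]], [[1, 2, 1, 2, 0, 0]], [[2, 2, 1, 2, 0, 0]],
   [[1, 0, 2, 2, 0, 0]], [[2, 0, 2, 2, 0, 0]], [[1, 1, 2, 2, 0, 0]], [[2, 1, 2, 2, 0, 0]], [[1, 2, 2, 2, 0, 0]], [[2, 2, 2, 2, 0, 0]],
   [[1, 0, 0, 0, 1, 0]], [[2, 0, 0, 0, 1, 0]], [[1, 1, 0, 0, 1, 0]], [[2, 1, 0, 0, 1, 0]], [[1, 2, 0, 0, 1, 0]], [[2, 2, 0, 0, 1, 0]],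
   [[1, 0, 1, 0, 1, 0]], [[2, 0, 1, 0, 1, 0]], [[1, 1, 1, 0, 1, 0]], [[2, 1, 1, 0, 1, 0]], [[1, 2, 1, 0, 1, 0]], [[2, 2, 1, 0, 1, 0]],
   [[1, 0, 2, 0, 1, 0]], [[2, 0, 2, 0, 1, 0]], [[1, 1, 2, 0, 1, 0]], [[2, 1, 2, 0, 1, 0]], [[1, 2, 2, 0, 1, 0]], [[2, 2, 2, 0, 1, 0]],
   [[1, 0, 0, 1, 1, 0]], [[2, 0, 0, 1, 1, 0]], [[1, 1, 0, 1, 1, 0]], [[2, 1, 0, 1, 1, 0]], [[1, 2, 0, 1, 1, 0]], [[2, 2, 0, 1, 1, 0]],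
   [[1, 0, 1, 1, 1, 0]], [[2, 0, 1, 1, 1, 0]], [[1, 1, 1, 1, 1, 0]], [[2, 1, 1, 1, 1, 0]], [[1, 2, 1, 1, 1, 0]], [[2, 2, 1, 1, 1, 0]],
   [[1, 0, 2, 1, 1, 0]], [[2, 0, 2, 1, 1, 0]], [[1, 1, 2, 1, 1, 0]], [[2, 1, 2, 1, 1, 0]], [[1, 2, 2, 1, 1, 0]], [[2, 2, 2, 1, 1, 0]],
   [[1, 0, 0, 2, 1, 0]], [[2, 0, 0, 2, 1, 0]], [[1, 1, 0, 2, 1, 0]], [[2, 1, 0, 2, 1, 0]], [[1, 2, 0, 2, 1, 0]], [[2, 2, 0, 2, 1, 0]],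
   [[1, 0, 1, 2, 1, 0]], [[2, 0, 1, 2, 1, 0]], [[1, 1, 1, 2, 1, 0]], [[2, 1, 1, 2, 1, 0]], [[1, 2, 1, 2, 1, 0]], [[2, 2, 1, 2, 1, 0]],
   [[1, 0, 2, 2, 1, 0]], [[2, 0, 2, 2, 1, 0]], [[1, 1, 2, 2, 1, 0]], [[2, 1, 2, 2, 1, 0]], [[1, 2, 2, 2, 1, 0]], [[2, 2, 2, 2, 1, 0]],
   [[1, 0, 0, 0, 2, 0]], [[2, 0, 0, 0, 2, 0]], [[1, 1, 0, 0, 2, 0]], [[2, 1, 0, 0, 2, 0]], [[1, 2, 0, 0, 2, 0]], [[2, 2, 0, 0, 2, 0]],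
   [[1, 0, 1, 0, 2, 0]], [[2, 0, 1, 0, 2, 0]], [[1, 1, 1, 0, 2, 0]], [[2, 1, 1, 0, 2, 0]], [[1, 2, 1, 0, 2, 0]], [[2, 2, 1, 0, 2, 0]],
   [[1, 0, 2, 0, 2, 0]], [[2, 0, 2, 0, 2, 0]], [[1, 1, 2, 0, 2, 0]], [[2, 1, 2, 0, 2, 0]], [[1, 2, 2, 0, 2, 0]], [[2, 2, 2, 0, 2, 0]],
   [[1, 0, 0, 1, 2, 0]], [[2, 0, 0, 1, 2, 0]], [[1, 1, 0, 1, 2, 0]], [[2, 1, 0, 1, 2, 0]], [[1, 2, 0, 1, 2, 0]], [[2, 2, 0, 1, 2, 0]],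
   [[1, 0, 1, 1, 2, 0]], [[2, 0, 1, 1, 2, 0]], [[1, 1, 1, 1, 2, 0]], [[2, 1, 1, 1, 2, 0]], [[1, 2, 1, 1, 2, 0]], [[2, 2, 1, 1, 2, 0]],
   [[1, 0, 2, 1, 2, 0]], [[2, 0, 2, 1, 2, 0]], [[1, 1, 2, 1, 2, 0]], [[2, 1, 2, 1, 2, 0]], [[1, 2, 2, 1, 2, 0]], [[2, 2, 2, 1, 2, 0]],
   [[1, 0, 0, 2, 2, 0]], [[2, 0, 0, 2, 2, 0]], [[1, 1, 0, 2, 2, 0]], [[2, 1, 0, 2, 2, 0]], [[1, 2, 0, 2, 2, 0]], [[2, 2, 0, 2, 2, 0]],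
   [[1, 0, 1, 2, 2, 0]], [[2, 0, 1, 2, 2, 0]], [[1, 1, 1, 2, 2, 0]], [[2, 1, 1, 2, 2, 0]], [[1, 2, 1, 2, 2, 0]], [[2, 2, 1, 2, 2, 0]],
   [[1, 0, 2, 2, 2, 0]], [[2, 0, 2, 2, 2, 0]], [[1, 1, 2, 2, 2, 0]], [[2, 1, 2, 2, 2, 0]], [[1, 2, 2, 2, 2, 0]], [[2, 2, 2, 2, 2, 0]],
   [[1, 0, 0, 0, 0, 1]], [[2, 0, 0, 0, 0, 1]], [[1, 1, 0, 0, 0, 1]], [[2, 1, 0, 0, 0, 1]], [[1, 2, 0, 0, 0, 1]], [[2, 2, 0, 0, 0, 1]],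
   [[1, 0, 1, 0, 0, 1]], [[2, 0, 1, 0, 0, 1]], [[1, 1, 1, 0, 0, 1]], [[2, 1, 1, 0, 0, 1]], [[1, 2, 1, 0, 0, 1]], [[2, 2, 1, 0, 0, 1]],
   [[1, 0, 2, 0, 0, 1]], [[2, 0, 2, 0, 0, 1]], [[1, 1, 2, 0, 0, 1]], [[2, 1, 2, 0, 0, 1]], [[1, 2, 2, 0, 0, 1]], [[2, 2, 2, 0, 0, 1]],
   [[1, 0, 0, 1, 0, 1]], [[2, 0, 0, 1, 0, 1]], [[1, 1, 0, 1, 0, 1]], [[2, 1, 0, 1, 0, 1]], [[1, 2, 0, 1, 0, 1]], [[2, 2, 0, 1, 0, 1]],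
   [[1, 0, 1, 1, 0, 1]], [[2, 0, 1, 1, 0, 1]], [[1, 1, 1, 1, 0, 1]], [[2, 1, 1, 1, 0, 1]], [[1, 2, 1, 1, 0, 1]], [[2, 2, 1, 1, 0, 1]],
   [[1, 0, 2, 1, 0, 1]], [[2, 0, 2, 1, 0, 1]], [[1, 1, 2, 1, 0, 1]], [[2, 1, 2, 1, 0, 1]], [[1, 2, 2, 1, 0, 1]], [[2, 2, 2, 1, 0, 1]],
   [[1, 0, 0, 2, 0, 1]], [[2, 0, 0, 2, 0, 1]], [[1, 1, 0, 2, 0, 1]], [[2, 1, 0, 2, 0, 1]], [[1, 2, 0, 2, 0, 1]], [[2, 2, 0, 2, 0, 1]],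
   [[1, 0, 1, 2, 0, 1]], [[2, 0, 1, 2, 0, 1]], [[1, 1, 1, 2, 0, 1]], [[2, 1, 1, 2, 0, 1]], [[1, 2, 1, 2, 0, 1]], [[2, 2, 1, 2, 0, 1]],
   [[1, 0, 2, 2, 0, 1]], [[2, 0, 2, 2, 0, 1]], [[1, 1, 2, 2, 0, 1]], [[2, 1, 2, 2, 0, 1]], [[1, 2, 2, 2, 0, 1]], [[2, 2, 2, 2, 0, 1]],
   [[1, 0, 0, 0, 1, 1]], [[2, 0, 0, 0, 1, 1]], [[1, 1, 0, 0, 1, 1]], [[2, 1, 0, 0, 1, 1]], [[1, 2, 0, 0, 1, 1]], [[2, 2, 0, 0, 1, 1]],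
   [[1, 0, 1, 0, 1, 1]], [[2, 0, 1, 0, 1, 1]], [[1, 1, 1, 0, 1, 1]], [[2, 1, 1, 0, 1, 1]], [[1, 2, 1, 0, 1, 1]], [[2, 2, 1, 0, 1, 1]],
   [[1, 0, 2, 0, 1, 1]], [[2, 0, 2, 0, 1, 1]], [[1, 1, 2, 0, 1, 1]], [[2, 1, 2, 0, 1, 1]], [[1, 2, 2, 0, 1, 1]], [[2, 2, 2, 0, 1, 1]],
   [[1, 0, 0, 1, 1, 1]], [[2, 0, 0, 1, 1, 1]], [[1, 1, 0, 1, 1, 1]], [[2, 1, 0, 1, 1, 1]], [[1, 2, 0, 1, 1, 1]], [[2, 2, 0, 1, 1, 1]],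
   [[1, 0, 1, 1, 1, 1]], [[2, 0, 1, 1, 1, 1]], [[1, 1, 1, 1, 1, 1]], [[2, 1, 1, 1, 1, 1]], [[1, 2, 1, 1, 1, 1]], [[2, 2, 1, 1, 1, 1]],
   [[1, 0, 2, 1, 1, 1]], [[2, 0, 2, 1, 1, 1]], [[1, 1, 2, 1, 1, 1]], [[2, 1, 2, 1, 1, 1]], [[1, 2, 2, 1, 1, 1]], [[2, 2, 2, 1, 1, 1]],
   [[1, 0, 0, 2, 1, 1]], [[2, 0, 0, 2, 1, 1]], [[1, 1, 0, 2, 1, 1]], [[2, 1, 0, 2, 1, 1]], [[1, 2, 0, 2, 1, 1]], [[2, 2, 0, 2, 1, 1]],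
   [[1, 0, 1, 2, 1, 1]], [[2, 0, 1, 2, 1, 1]], [[1, 1, 1, 2, 1, 1]], [[2, 1, 1, 2, 1, 1]], [[1, 2, 1, 2, 1, 1]], [[2, 2, 1, 2, 1, 1]],
   [[1, 0, 2, 2, 1, 1]], [[2, 0, 2, 2, 1, 1]], [[1, 1, 2, 2, 1, 1]], [[2, 1, 2, 2, 1, 1]], [[1, 2, 2, 2, 1, 1]], [[2, 2, 2, 2, 1, 1]],
   [[1, 0, 0, 0, 2, 1]], [[2, 0, 0, 0, 2, 1]], [[1, 1, 0, 0, 2, 1]], [[2, 1, 0, 0, 2, 1]], [[1, 2, 0, 0, 2, 1]], [[2, 2, 0, 0, 2, 1]],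
   [[1, 0, 1, 0, 2, 1]], [[2, 0, 1, 0, 2, 1]], [[1, 1, 1, 0, 2, 1]], [[2, 1, 1, 0, 2, 1]], [[1, 2, 1, 0, 2, 1]], [[2, 2, 1, 0, 2, 1]],
   [[1, 0, 2, 0, 2, 1]], [[2, 0, 2, 0, 2, 1]], [[1, 1, 2, 0, 2, 1]], [[2, 1, 2, 0, 2, 1]], [[1, 2, 2, 0, 2, 1]], [[2, 2, 2, 0, 2, 1]],
   [[1, 0, 0, 1, 2, 1]], [[2, 0, 0, 1, 2, 1]], [[1, 1, 0, 1, 2, 1]], [[2, 1, 0, 1, 2, 1]], [[1, 2, 0, 1, 2, 1]], [[2, 2, 0, 1, 2, 1]],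
   [[1, 0, 1, 1, 2, 1]], [[2, 0, 1, 1, 2, 1]], [[1, 1, 1, 1, 2, 1]], [[2, 1, 1, 1, 2, 1]], [[1, 2, 1, 1, 2, 1]], [[2, 2, 1, 1, 2, 1]],
   [[1, 0, 2, 1, 2, 1]], [[2, 0, 2, 1, 2, 1]], [[1, 1, 2, 1, 2, 1]], [[2, 1, 2, 1, 2, 1]], [[1, 2, 2, 1, 2, 1]], [[2, 2, 2, 1, 2, 1]],
   [[1, 0, 0, 2, 2, 1]], [[2, 0, 0, 2, 2, 1]], [[1, 1, 0, 2, 2, 1]], [[2, 1, 0, 2, 2, 1]], [[1, 2, 0, 2, 2, 1]], [[2, 2, 0, 2, 2, 1]],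
   [[1, 0, 1, 2, 2, 1]], [[2, 0, 1, 2, 2, 1]], [[1, 1, 1, 2, 2, 1]], [[2, 1, 1, 2, 2, 1]], [[1, 2, 1, 2, 2, 1]], [[2, 2, 1, 2, 2, 1]],
   [[1, 0, 2, 2, 2, 1]], [[2, 0, 2, 2, 2, 1]], [[1, 1, 2, 2, 2, 1]], [[2, 1, 2, 2, 2, 1]], [[1, 2, 2, 2, 2, 1]], [[2, 2, 2, 2, 2, 1]],
   [[1, 0, 0, 0, 0, 2]], [[2, 0, 0, 0, 0, 2]], [[1, 1, 0, 0, 0, 2]], [[2, 1, 0, 0, 0, 2]], [[1, 2, 0, 0, 0, 2]], [[2, 2, 0, 0, 0, 2]],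
   [[1, 0, 1, 0, 0, 2]], [[2, 0, 1, 0, 0, 2]], [[1, 1, 1, 0, 0, 2]], [[2, 1, 1, 0, 0, 2]], [[1, 2, 1, 0, 0, 2]], [[2, 2, 1, 0, 0, 2]],
   [[1, 0, 2, 0, 0, 2]], [[2, 0, 2, 0, 0, 2]], [[1, 1, 2, 0, 0, 2]], [[2, 1, 2, 0, 0, 2]], [[1, 2, 2, 0, 0, 2]], [[2, 2, 2, 0, 0, 2]],
   [[1, 0, 0, 1, 0, 2]], [[2, 0, 0, 1, 0, 2]], [[1, 1, 0, 1, 0, 2]], [[2, 1, 0, 1, 0, 2]], [[1, 2, 0, 1, 0, 2]], [[2, 2, 0, 1, 0, 2]],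
   [[1, 0, 1, 1, 0, 2]], [[2, 0, 1, 1, 0, 2]], [[1, 1, 1, 1, 0, 2]], [[2, 1, 1, 1, 0, 2]], [[1, 2, 1, 1, 0, 2]], [[2, 2, 1, 1, 0, 2]],
   [[1, 0, 2, 1, 0, 2]], [[2, 0, 2, 1, 0, 2]], [[1, 1, 2, 1, 0, 2]], [[2, 1, 2, 1, 0, 2]], [[1, 2, 2, 1, 0, 2]], [[2, 2, 2, 1, 0, 2]],
   [[1, 0, 0, 2, 0, 2]], [[2, 0, 0, 2, 0, 2]], [[1, 1, 0, 2, 0, 2]], [[2, 1, 0, 2, 0, 2]], [[1, 2, 0, 2, 0, 2]], [[2, 2, 0, 2, 0, 2]],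
   [[1, 0, 1, 2, 0, 2]], [[2, 0, 1, 2, 0, 2]], [[1, 1, 1, 2, 0, 2]], [[2, 1, 1, 2, 0, 2]], [[1, 2, 1, 2, 0, 2]], [[2, 2, 1, 2, 0, 2]],
   [[1, 0, 2, 2, 0, 2]], [[2, 0, 2, 2, 0, 2]], [[1, 1, 2, 2, 0, 2]], [[2, 1, 2, 2, 0, 2]], [[1, 2, 2, 2, 0, 2]], [[2, 2, 2, 2, 0, 2]],
   [[1, 0, 0, 0, 1, 2]], [[2, 0, 0, 0, 1, 2]], [[1, 1, 0, 0, 1, 2]], [[2, 1, 0, 0, 1, 2]], [[1, 2, 0, 0, 1, 2]], [[2, 2, 0, 0, 1, 2]],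
   [[1, 0, 1, 0, 1, 2]], [[2, 0, 1, 0, 1, 2]], [[1, 1, 1, 0, 1, 2]], [[2, 1, 1, 0, 1, 2]], [[1, 2, 1, 0, 1, 2]], [[2, 2, 1, 0, 1, 2]],
   [[1, 0, 2, 0, 1, 2]], [[2, 0, 2, 0, 1, 2]], [[1, 1, 2, 0, 1, 2]], [[2, 1, 2, 0, 1, 2]], [[1, 2, 2, 0, 1, 2]], [[2, 2, 2, 0, 1, 2]],
   [[1, 0, 0, 1, 1, 2]], [[2, 0, 0, 1, 1, 2]], [[1, 1, 0, 1, 1, 2]], [[2, 1, 0, 1, 1, 2]], [[1, 2, 0, 1, 1, 2]], [[2, 2, 0, 1, 1, 2]],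
   [[1, 0, 1, 1, 1, 2]], [[2, 0, 1, 1, 1, 2]], [[1, 1, 1, 1, 1, 2]], [[2, 1, 1, 1, 1, 2]], [[1, 2, 1, 1, 1, 2]], [[2, 2, 1, 1, 1, 2]],
   [[1, 0, 2, 1, 1, 2]], [[2, 0, 2, 1, 1, 2]], [[1, 1, 2, 1, 1, 2]], [[2, 1, 2, 1, 1, 2]], [[1, 2, 2, 1, 1, 2]], [[2, 2, 2, 1, 1, 2]],
   [[1, 0, 0, 2, 1, 2]], [[2, 0, 0, 2, 1, 2]], [[1, 1, 0, 2, 1, 2]], [[2, 1, 0, 2, 1, 2]], [[1, 2, 0, 2, 1, 2]], [[2, 2, 0, 2, 1, 2]],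
   [[1, 0, 1, 2, 1, 2]], [[2, 0, 1, 2, 1, 2]], [[1, 1, 1, 2, 1, 2]], [[2, 1, 1, 2, 1, 2]], [[1, 2, 1, 2, 1, 2]], [[2, 2, 1, 2, 1, 2]],
   [[1, 0, 2, 2, 1, 2]], [[2, 0, 2, 2, 1, 2]], [[1, 1, 2, 2, 1, 2]], [[2, 1, 2, 2, 1, 2]], [[1, 2, 2, 2, 1, 2]], [[2, 2, 2, 2, 1, 2]],
   [[1, 0, 0, 0, 2, 2]], [[2, 0, 0, 0, 2, 2]], [[1, 1, 0, 0, 2, 2]], [[2, 1, 0, 0, 2, 2]], [[1, 2, 0, 0, 2, 2]], [[2, 2, 0, 0, 2, 2]],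
   [[1, 0, 1, 0, 2, 2]], [[2, 0, 1, 0, 2, 2]], [[1, 1, 1, 0, 2, 2]], [[2, 1, 1, 0, 2, 2]], [[1, 2, 1, 0, 2, 2]], [[2, 2, 1, 0, 2, 2]],
   [[1, 0, 2, 0, 2, 2]], [[2, 0, 2, 0, 2, 2]], [[1, 1, 2, 0, 2, 2]], [[2, 1, 2, 0, 2, 2]], [[1, 2, 2, 0, 2, 2]], [[2, 2, 2, 0, 2, 2]],
   [[1, 0, 0, 1, 2, 2]], [[2, 0, 0, 1, 2, 2]], [[1, 1, 0, 1, 2, 2]], [[2, 1, 0, 1, 2, 2]], [[1, 2, 0, 1, 2, 2]], [[2, 2, 0, 1, 2, 2]],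
   [[1, 0, 1, 1, 2, 2]], [[2, 0, 1, 1, 2, 2]], [[1, 1, 1, 1, 2, 2]], [[2, 1, 1, 1, 2, 2]], [[1, 2, 1, 1, 2, 2]], [[2, 2, 1, 1, 2, 2]],
   [[1, 0, 2, 1, 2, 2]], [[2, 0, 2, 1, 2, 2]], [[1, 1, 2, 1, 2, 2]], [[2, 1, 2, 1, 2, 2]], [[1, 2, 2, 1, 2, 2]], [[2, 2, 2, 1, 2, 2]],
   [[1, 0, 0, 2, 2, 2]], [[2, 0, 0, 2, 2, 2]], [[1, 1, 0, 2, 2, 2]], [[2, 1, 0, 2, 2, 2]], [[1, 2, 0, 2, 2, 2]], [[2, 2, 0, 2, 2, 2]],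
   [[1, 0, 1, 2, 2, 2]], [[2, 0, 1, 2, 2, 2]], [[1, 1, 1, 2, 2, 2]], [[2, 1, 1, 2, 2, 2]], [[1, 2, 1, 2, 2, 2]], [[2, 2, 1, 2, 2, 2]],
   [[1, 0, 2, 2, 2, 2]], [[2, 0, 2, 2, 2, 2]], [[1, 1, 2, 2, 2, 2]], [[2, 1, 2, 2, 2, 2]], [[1, 2, 2, 2, 2, 2]], [[2, 2, 2, 2, 2, 2]]]

/-- The chains of size 7. -/
def chains7 : List (List (List ℕ)) :=
  [[[1], [1], [1], [1], [1], [1], [1]], [[2], [2], [2], [2], [2], [2], [2]], [[1, 0], [1], [1], [1], [1], [1]], [[1, 0], [2], [2], [2], [2], [2]], [[1, 0], [1, 0], [1], [1], [1]], [[1, 0], [1, 0], [2], [2], [2]],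
   [[1, 0], [1, 0], [1, 0], [1]], [[1, 0], [1, 0], [1, 0], [2]], [[2, 1], [2], [2], [2], [2], [2]], [[2, 1], [2, 1], [2], [2], [2]], [[2, 1], [2, 1], [2, 1], [2]], [[2, 2], [1], [1], [1], [1], [1]],
   [[2, 2], [2, 2], [1], [1], [1]], [[2, 2], [2, 2], [2, 2], [1]], [[1, 0, 0], [1], [1], [1], [1]], [[1, 0, 0], [2, 2], [1], [1]], [[1, 0, 0], [2, 2], [2, 2]], [[1, 0, 0], [1, 0, 0], [1]],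
   [[2, 0, 0], [2], [2], [2], [2]], [[2, 0, 0], [2, 1], [2], [2]], [[2, 0, 0], [2, 1], [2, 1]], [[2, 0, 0], [2, 0, 0], [2]], [[1, 2, 0], [2], [2], [2], [2]], [[1, 2, 0], [1, 1], [1, 1]],
   [[1, 2, 0], [1, 2, 0], [2]], [[2, 2, 0], [1], [1], [1], [1]], [[2, 2, 0], [1, 2], [1, 2]], [[2, 2, 0], [2, 2, 0], [1]], [[1, 0, 1], [2], [2], [2], [2]], [[1, 0, 1], [1, 2], [1, 2]],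
   [[1, 0, 1], [1, 0, 1], [2]], [[2, 1, 1], [1], [1], [1], [1]], [[2, 1, 1], [2], [2], [2], [2]], [[2, 1, 1], [1, 0], [1], [1]], [[2, 1, 1], [1, 0], [2], [2]], [[2, 1, 1], [1, 0], [1, 0]],
   [[2, 1, 1], [2, 2], [1], [1]], [[2, 1, 1], [2, 2], [2, 2]], [[2, 1, 1], [2, 1, 1], [1]], [[2, 1, 1], [2, 1, 1], [2]], [[1, 2, 1], [1], [1], [1], [1]], [[1, 2, 1], [2, 0], [2, 0]],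
   [[1, 2, 1], [1, 2, 1], [1]], [[2, 0, 2], [1], [1], [1], [1]], [[2, 0, 2], [1, 1], [1, 1]], [[2, 0, 2], [2, 0, 2], [1]], [[1, 1, 2], [1], [1], [1], [1]], [[1, 1, 2], [2], [2], [2], [2]],
   [[1, 1, 2], [1, 0], [1], [1]], [[1, 1, 2], [1, 0], [2], [2]], [[1, 1, 2], [1, 0], [1, 0]], [[1, 1, 2], [2, 1], [2], [2]], [[1, 1, 2], [2, 1], [2, 1]], [[1, 1, 2], [1, 1, 2], [1]],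
   [[1, 1, 2], [1, 1, 2], [2]], [[2, 2, 2], [2], [2], [2], [2]], [[2, 2, 2], [2, 0], [2, 0]], [[2, 2, 2], [2, 2, 2], [2]]]

/-- The chains of size 8. -/
def chains8 : List (List (List ℕ)) :=
  [[[1], [1], [1], [1], [1], [1], [1], [1]], [[2], [2], [2], [2], [2], [2], [2], [2]], [[1, 0], [1], [1], [1], [1], [1], [1]], [[1, 0], [2], [2], [2], [2], [2], [2]], [[1, 0], [1, 0], [1], [1], [1], [1]], [[1, 0], [1, 0], [2], [2], [2], [2]],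
   [[1, 0], [1, 0], [1, 0], [1], [1]], [[1, 0], [1, 0], [1, 0], [2], [2]], [[1, 0], [1, 0], [1, 0], [1, 0]], [[2, 0], [2, 0], [2, 0], [2, 0]], [[1, 1], [1, 1], [1, 1], [1, 1]], [[2, 1], [2], [2], [2], [2], [2], [2]],
   [[2, 1], [2, 1], [2], [2], [2], [2]], [[2, 1], [2, 1], [2, 1], [2], [2]], [[2, 1], [2, 1], [2, 1], [2, 1]], [[1, 2], [1, 2], [1, 2], [1, 2]], [[2, 2], [1], [1], [1], [1], [1], [1]], [[2, 2], [2, 2], [1], [1], [1], [1]],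
   [[2, 2], [2, 2], [2, 2], [1], [1]], [[2, 2], [2, 2], [2, 2], [2, 2]], [[1, 0, 0], [1], [1], [1], [1], [1]], [[1, 0, 0], [2, 2], [1], [1], [1]], [[1, 0, 0], [2, 2], [2, 2], [1]], [[1, 0, 0], [1, 0, 0], [1], [1]],
   [[1, 0, 0], [1, 0, 0], [2, 2]], [[2, 0, 0], [2], [2], [2], [2], [2]], [[2, 0, 0], [2, 1], [2], [2], [2]], [[2, 0, 0], [2, 1], [2, 1], [2]], [[2, 0, 0], [2, 0, 0], [2], [2]], [[2, 0, 0], [2, 0, 0], [2, 1]],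
   [[1, 2, 0], [2], [2], [2], [2], [2]], [[1, 2, 0], [1, 2, 0], [2], [2]], [[1, 2, 0], [1, 2, 0], [1, 1]], [[2, 2, 0], [1], [1], [1], [1], [1]], [[2, 2, 0], [2, 2, 0], [1], [1]], [[2, 2, 0], [2, 2, 0], [1, 2]],
   [[1, 0, 1], [2], [2], [2], [2], [2]], [[1, 0, 1], [1, 0, 1], [2], [2]], [[1, 0, 1], [1, 0, 1], [1, 2]], [[2, 1, 1], [1], [1], [1], [1], [1]], [[2, 1, 1], [2], [2], [2], [2], [2]], [[2, 1, 1], [1, 0], [1], [1], [1]],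
   [[2, 1, 1], [1, 0], [2], [2], [2]], [[2, 1, 1], [1, 0], [1, 0], [1]], [[2, 1, 1], [1, 0], [1, 0], [2]], [[2, 1, 1], [2, 2], [1], [1], [1]], [[2, 1, 1], [2, 2], [2, 2], [1]], [[2, 1, 1], [2, 1, 1], [1], [1]],
   [[2, 1, 1], [2, 1, 1], [2], [2]], [[2, 1, 1], [2, 1, 1], [1, 0]], [[2, 1, 1], [2, 1, 1], [2, 2]], [[1, 2, 1], [1], [1], [1], [1], [1]], [[1, 2, 1], [1, 2, 1], [1], [1]], [[1, 2, 1], [1, 2, 1], [2, 0]],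
   [[2, 0, 2], [1], [1], [1], [1], [1]], [[2, 0, 2], [2, 0, 2], [1], [1]], [[2, 0, 2], [2, 0, 2], [1, 1]], [[1, 1, 2], [1], [1], [1], [1], [1]], [[1, 1, 2], [2], [2], [2], [2], [2]], [[1, 1, 2], [1, 0], [1], [1], [1]],
   [[1, 1, 2], [1, 0], [2], [2], [2]], [[1, 1, 2], [1, 0], [1, 0], [1]], [[1, 1, 2], [1, 0], [1, 0], [2]], [[1, 1, 2], [2, 1], [2], [2], [2]], [[1, 1, 2], [2, 1], [2, 1], [2]], [[1, 1, 2], [1, 1, 2], [1], [1]],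
   [[1, 1, 2], [1, 1, 2], [2], [2]], [[1, 1, 2], [1, 1, 2], [1, 0]], [[1, 1, 2], [1, 1, 2], [2, 1]], [[2, 2, 2], [2], [2], [2], [2], [2]], [[2, 2, 2], [2, 2, 2], [2], [2]], [[2, 2, 2], [2, 2, 2], [2, 0]]]

/-- The table of chains. -/
def chains : List (List (List (List ℕ))) :=
  [chains0, chains1, chains2, chains3, chains4, chains5, chains6, chains7, chains8]

theorem closeB_1 : closeB chains 1 = true := by decide +kernel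

theorem closeB_2 : closeB chains 2 = true := by decide +kernel

theorem closeB_3 : closeB chains 3 = true := by decide +kernel

theorem closeB_4 : closeB chains 4 = true := by decide +kernel

theorem closeB_5 : closeB chains 5 = true := by decide +kernel

theorem closeB_6 : closeB chains 6 = true := by decide +kernel

theorem closeB_7 : closeB chains 7 = true := by decide +kernel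

theorem closeB_8 : closeB chains 8 = true := by decide +kernel

end CfsgLib.OreSmallThree.Tab
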