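import Cfsg.Agent.Lib.OreSmallThree.TableCheck

/-!
The invariant chains of companion blocks over the field with three elements as lists of coefficient lists, and
the reduction of a table to finitely many checks.
-/

set_option autoImplicit false
set_option linter.unusedSectionVars false

namespace CfsgLib.OreSmallThree.Tab

open Matrix Polynomial CfsgLib.PSLCover CfsgLib.OreSmall

/-- The code of a block. -/
def bcode (c : Blk (ZMod 3)) : List ℕ := List.ofFn fun i => (c.2 i).val

/-- The code of a list of blocks. -/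
def code (L : List (Blk (ZMod 3))) : List (List ℕ) := L.map bcode

/-- The entries of a companion matrix. -/
def compE (b : List ℕ) (i j : ℕ) : ℕ :=
  if j + 1 = b.length then b.getD i 0 else if i = j + 1 then 1 else 0

/-- The entries of a direct sum of companion blocks. -/
def bdgE : List (List ℕ) → ℕ → ℕ → ℕ
  | [], _, _ => 0
  | b :: L, i, j =>
    if i < b.length then (if j < b.length then compE b i j else 0)
    else if j < b.length then 0 else bdgE L (i - b.length) (j - b.length)

theorem bcode_getD (c : Blk (ZMod 3)) (i : Fin (c.1 + 1)) : (bcode c).getD i 0 = (c.2 i).val := by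
  rw [bcode, List.getD_eq_getElem?_getD, List.getElem?_ofFn, dif_pos i.isLt]
  rfl

theorem comp_entry (c : Blk (ZMod 3)) (i j : Fin (c.1 + 1)) :
    PSLCover.comp c.2 i j = (compE (bcode c) i j : ZMod 3) := by
  have hl : (bcode c).length = c.1 + 1 := by simp [bcode]
  rcases eq_or_ne j (Fin.last c.1) with rfl | hj
  · rw [comp_last, compE, hl, if_pos (by rw [Fin.val_last]), bcode_getD, ZMod.natCast_zmod_val]
  · have hj' : (j : ℕ) ≠ c.1 := fun e => hj (Fin.ext (by simpa using e))
    rw [comp_lt c.2 hj, compE, hl, if_neg (show ¬ (j : ℕ) + 1 = c.1 + 1 by omega)]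
    by_cases h : (i : ℕ) = j + 1
    · rw [if_pos h, if_pos h, Nat.cast_one]
    · rw [if_neg h, if_neg h, Nat.cast_zero]

theorem bdg_eq : ∀ L : List (Blk (ZMod 3)), bdg L = entM (size L) (bdgE (code L))
  | [] => Matrix.ext fun i => Fin.elim0 i
  | c :: L => by
    have hl : (bcode c).length = c.1 + 1 := by simp [bcode]
    ext i j
    obtain ⟨i, rfl⟩ := (finSumFinEquiv (m := c.1 + 1) (n := size L)).surjective i
    obtain ⟨j, rfl⟩ := (finSumFinEquiv (m := c.1 + 1) (n := size L)).surjective j
    show (fromBlocks (PSLCover.comp c.2) 0 0 (bdg L)).reindex finSumFinEquiv finSumFinEquiv _ _ =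
      ((bdgE (bcode c :: code L) _ _ : ℕ) : ZMod 3)
    rw [Matrix.reindex_apply, Matrix.submatrix_apply, Equiv.symm_apply_apply, Equiv.symm_apply_apply, bdgE, hl]
    rcases i with i | i <;> rcases j with j | j <;>
      simp only [fromBlocks_apply₁₁, fromBlocks_apply₁₂, fromBlocks_apply₂₁, fromBlocks_apply₂₂,
        finSumFinEquiv_apply_left, finSumFinEquiv_apply_right, Fin.val_castAdd, Fin.val_natAdd, i.isLt, j.isLt,
        if_true, Matrix.zero_apply]
    · exact comp_entry c i j
    · exact Nat.cast_zero.symm.trans (congrArg Nat.cast (if_neg (Nat.not_lt.2 (Nat.le_add_right (c.1 + 1) _))).symm)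
    · exact Nat.cast_zero.symm.trans (congrArg Nat.cast (if_neg (Nat.not_lt.2 (Nat.le_add_right (c.1 + 1) _))).symm)
    · refine (congrFun (congrFun (bdg_eq L) i) j).trans (congrArg Nat.cast ?_)
      simp only [Nat.not_lt.2 (Nat.le_add_right (c.1 + 1) _), if_false, Nat.add_sub_cancel_left]

/-- The vectors of the powers of a companion matrix at the first unit vector. -/
def iterV (b : List ℕ) : ℕ → List ℕ
  | 0 => (List.range b.length).map fun i => if i = 0 then 1 else 0
  | k + 1 => (List.range b.length).map fun i =>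
      (sumTo b.length fun j => compE b i j * (iterV b k).getD j 0) % 3

theorem iterV_sound (c : Blk (ZMod 3)) : ∀ (k : ℕ) (i : Fin (c.1 + 1)),
    (PSLCover.comp c.2 ^ k *ᵥ Pi.single 0 1) i = ((iterV (bcode c) k).getD i 0 : ZMod 3) := by
  have hl : (bcode c).length = c.1 + 1 := by simp [bcode]
  have hget : ∀ (f : ℕ → ℕ) (i : Fin (c.1 + 1)), ((List.range (bcode c).length).map f).getD i 0 = f i := fun f i => by
    simp [List.getD_eq_getElem?_getD, hl, i.isLt]
  intro k
  induction k with
  | zero =>
    intro i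
    rw [pow_zero, Matrix.one_mulVec, iterV, hget]
    rcases eq_or_ne i 0 with rfl | h
    · simp
    · rw [Pi.single_eq_of_ne h, if_neg (show ¬ (i : ℕ) = 0 from fun e => h (Fin.ext e)), Nat.cast_zero]
  | succ k ih =>
    intro i
    rw [iterV, hget, cast_mod, hl, sumTo_eq, Nat.cast_sum, pow_succ', ← Matrix.mulVec_mulVec]
    simp only [Matrix.mulVec, dotProduct] at ih ⊢
    exact Finset.sum_congr rfl fun j _ => by rw [Nat.cast_mul, ← ih j, comp_entry]

/-- The step test. -/
def stepB (c b : List ℕ) : Bool :=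
  decide (b.length ≤ c.length) && allTo b.length fun i =>
    (iterV b c.length).getD i 0 % 3 == (sumTo c.length fun j => c.getD j 0 * (iterV b j).getD i 0) % 3

theorem stepB_of_step {c b : Blk (ZMod 3)} (h : Step c b) : stepB (bcode c) (bcode b) = true := by
  have hc : (bcode c).length = c.1 + 1 := by simp [bcode]
  have hb : (bcode b).length = b.1 + 1 := by simp [bcode]
  rw [stepB, Bool.and_eq_true]
  refine ⟨by simp [hc, hb, h.1], ?_⟩
  rw [allTo, List.all_eq_true]
  intro i hi
  rw [List.mem_range, hb] at hi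
  have e := aeval_compPoly (x := PSLCover.comp b.2) c.2 (Pi.single 0 1)
  rw [h.2, Matrix.zero_mulVec] at e
  have e' : ((iterV (bcode b) (bcode c).length).getD i 0 : ZMod 3) =
      ((sumTo (bcode c).length fun j => (bcode c).getD j 0 * (iterV (bcode b) j).getD i 0 : ℕ) : ZMod 3) := by
    have e2 := congrFun (sub_eq_zero.1 e.symm) ⟨i, hi⟩
    rw [iterV_sound b (c.1 + 1) ⟨i, hi⟩, Finset.sum_apply] at e2
    rw [hc, e2, sumTo_eq, Nat.cast_sum]
    refine Finset.sum_congr rfl fun j _ => ?_
    rw [Pi.smul_apply, smul_eq_mul, iterV_sound b j ⟨i, hi⟩, Nat.cast_mul, bcode_getD, ZMod.natCast_zmod_val]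
  have := (ZMod.natCast_eq_natCast_iff' _ _ 3).1 e'
  rw [beq_iff_eq]
  exact this

theorem det_comp (c : Blk (ZMod 3)) : (PSLCover.comp c.2).det = (-1) ^ c.1 * c.2 0 := by
  obtain ⟨d, a⟩ := c
  rw [Matrix.det_succ_row_zero, Finset.sum_eq_single (Fin.last d)]
  · rw [comp_last, show (PSLCover.comp a).submatrix Fin.succ (Fin.last d).succAbove = 1 from ?_, det_one, mul_one,
      Fin.val_last]
    ext i j
    simp [Fin.succAbove_last, comp_lt a (Fin.castSucc_lt_last j).ne, Matrix.one_apply, Fin.ext_iff]
  · intro j _ hj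
    rw [comp_lt a hj, if_neg (by simp), mul_zero, zero_mul]
  · simp

/-- The determinant of a code. -/
def detC : List (List ℕ) → ℕ
  | [] => 1
  | b :: L => ((if b.length % 2 = 0 then 2 * b.getD 0 0 else b.getD 0 0) * detC L) % 3

theorem detC_eq : ∀ L : List (Blk (ZMod 3)), (bdg L).det = (detC (code L) : ZMod 3)
  | [] => by
    haveI : IsEmpty (Fin (size ([] : List (Blk (ZMod 3))))) := Fin.isEmpty'
    rw [code, List.map_nil, detC, Nat.cast_one]; exact Matrix.det_isEmpty
  | c :: L => by
    show ((fromBlocks (PSLCover.comp c.2) 0 0 (bdg L)).reindex finSumFinEquiv finSumFinEquiv).det =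
      ((detC (bcode c :: code L) : ℕ) : ZMod 3)
    rw [Matrix.det_reindex_self, det_fromBlocks_zero₂₁, det_comp, detC, cast_mod, Nat.cast_mul, ← detC_eq L]
    congr 1
    have h0 := bcode_getD c 0
    simp only [Fin.val_zero] at h0
    have hl : (bcode c).length = c.1 + 1 := by simp [bcode]
    rw [hl, h0]
    rcases Nat.even_or_odd c.1 with h | h
    · rw [h.neg_one_pow, one_mul, if_neg (by rcases h with ⟨k, hk⟩; omega), ZMod.natCast_zmod_val]
    · rw [h.neg_one_pow, if_pos (by rcases h with ⟨k, hk⟩; omega), Nat.cast_mul, ZMod.natCast_zmod_val]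
      rfl

/-- Whether a block may head a chain. -/
def headB (c : List ℕ) : List (List ℕ) → Bool
  | [] => true
  | b :: _ => stepB c b

/-- The chains of size `k` made from those of smaller size. -/
def genB (T : List (List (List (List ℕ)))) (k : ℕ) : List (List (List ℕ)) :=
  (List.range (if k ≤ 6 then k else 3)).flatMap fun l =>
    ((List.range (3 ^ (l + 1))).filter fun r => r % 3 != 0).flatMap fun r =>
      ((T.getD (k - (l + 1)) []).filter (headB ((List.range (l + 1)).map (dig r)))).map
        (((List.range (l + 1)).map (dig r)) :: ·)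

/-- The closure test of a table. -/
def closeB (T : List (List (List (List ℕ)))) (k : ℕ) : Bool := genB T k == T.getD k []

theorem exists_num : ∀ (l : List ℕ), (∀ x ∈ l, x < 3) →
    ∃ r < 3 ^ l.length, (List.range l.length).map (dig r) = l
  | [], _ => ⟨0, by simp, rfl⟩
  | x :: l, h => by
    obtain ⟨r, hr, hl⟩ := exists_num l fun y hy => h y (List.mem_cons_of_mem _ hy)
    have hx := h x List.mem_cons_self
    refine ⟨x + 3 * r, by simp [pow_succ]; omega, ?_⟩
    rw [List.length_cons, List.range_succ_eq_map, List.map_cons, List.map_map]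
    refine List.cons_eq_cons.2 ⟨by simp [dig]; omega, ?_⟩
    refine Eq.trans ?_ hl
    refine List.map_congr_left fun i _ => ?_
    show (x + 3 * r) / 3 ^ (i + 1) % 3 = r / 3 ^ i % 3
    rw [pow_succ', ← Nat.div_div_eq_div_mul]
    congr 2
    omega

theorem bcode_lt (c : Blk (ZMod 3)) : ∀ x ∈ bcode c, x < 3 := by
  intro x hx
  obtain ⟨i, rfl⟩ := List.mem_ofFn.1 hx
  exact ZMod.val_lt _

theorem mem_table {T : List (List (List (List ℕ)))} (h0 : [] ∈ T.getD 0 [])
    (hT : ∀ k, 1 ≤ k → k ≤ 8 → closeB T k = true) :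
    ∀ L : List (Blk (ZMod 3)), IsInv L → (bdg L).det ≠ 0 → size L ≤ 8 →
      (size L ≤ 6 ∨ ∀ c ∈ L, c.1 ≤ 2) → code L ∈ T.getD (size L) []
  | [], _, _, _, _ => h0
  | c :: L, hi, hd, hs, hsmall => by
    have hsz : size (c :: L) = c.1 + 1 + size L := rfl
    obtain ⟨hdc, hdL⟩ := det_cons hd
    have hiL : IsInv L := by
      cases L with
      | nil => trivial
      | cons b L => exact hi.2
    have ih := mem_table h0 hT L hiL hdL (by omega)
      (hsmall.imp (fun h => by omega) fun h x hx => h x (List.mem_cons_of_mem _ hx))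
    have hk := hT (size (c :: L)) (by omega) hs
    obtain ⟨r, hr, hrc⟩ := exists_num (bcode c) (bcode_lt c)
    have hl : (bcode c).length = c.1 + 1 := by simp [bcode]
    rw [hl] at hr hrc
    have hlim : c.1 < (if size (c :: L) ≤ 6 then size (c :: L) else 3) := by
      split
      · omega
      · rcases hsmall with h | h
        · omega
        · have := h c List.mem_cons_self; omega
    have hr0 : r % 3 ≠ 0 := fun e => by
      have h0' := bcode_getD c 0
      simp only [Fin.val_zero] at h0'
      rw [← hrc] at h0'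
      simp [dig, e] at h0'
      exact comp_zero_ne hdc ((ZMod.val_eq_zero _).1 h0'.symm)
    rw [closeB, beq_iff_eq] at hk
    rw [← hk, genB]
    refine List.mem_flatMap.2 ⟨c.1, List.mem_range.2 hlim, List.mem_flatMap.2
      ⟨r, List.mem_filter.2 ⟨List.mem_range.2 hr, by simpa using hr0⟩, ?_⟩⟩
    rw [hrc, show size (c :: L) - (c.1 + 1) = size L by omega]
    refine List.mem_map.2 ⟨code L, List.mem_filter.2 ⟨ih, ?_⟩, rfl⟩
    cases L with
    | nil => rfl
    | cons b L => exact stepB_of_step hi.1

/-- The test for minus one. -/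
def negB (n : ℕ) (cd : List (List ℕ)) : Bool :=
  allTo n fun i => allTo n fun j => bdgE cd i j % 3 == if i = j then 2 else 0

theorem negB_iff {n : ℕ} {cd : List (List ℕ)} : negB n cd = true ↔ entM n (bdgE cd) = -1 := by
  constructor
  · intro h
    ext i j
    have := beq_iff_eq.1 (allTo_apply (allTo_apply h i.2) j.2)
    show (bdgE cd i j : ZMod 3) = _
    rw [← cast_mod, this]
    rcases eq_or_ne i j with rfl | h
    · rw [if_pos rfl, Matrix.neg_apply, Matrix.one_apply_eq]; rfl
    · rw [if_neg fun e => h (Fin.ext e), Matrix.neg_apply, Matrix.one_apply_ne h, neg_zero, Nat.cast_zero]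
  · intro h
    rw [negB, allTo, List.all_eq_true]
    intro i hi
    rw [allTo, List.all_eq_true]
    intro j hj
    rw [List.mem_range] at hi hj
    rw [beq_iff_eq]
    have := congrArg ZMod.val (congrFun (congrFun h ⟨i, hi⟩) ⟨j, hj⟩)
    simp only [entM, Matrix.of_apply, ZMod.val_natCast, Matrix.neg_apply] at this
    rw [this]
    rcases eq_or_ne i j with rfl | h'
    · rw [if_pos rfl, Matrix.one_apply_eq]; rfl
    · rw [if_neg h', Matrix.one_apply_ne (fun e => h' (congrArg Fin.val e)), neg_zero]; rfl

/-- A keyed certificate list is right. -/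
def certsOK (n : ℕ) (P : List ℕ) (e : ℕ) (l : List (List (List ℕ) × Cert)) : Bool :=
  l.all fun p => p.2.poly == P && p.2.eps == e && check n (bdgE p.1) p.2

/-- The keys cover the selected codes. -/
def covers (T : List (List (List ℕ))) (sel : List (List ℕ) → Bool) (l : List (List (List ℕ) × Cert)) : Bool :=
  T.filter sel == l.map Prod.fst

theorem certsOK_append {n : ℕ} {P : List ℕ} {e : ℕ} {l l' : List (List (List ℕ) × Cert)}
    (h : certsOK n P e l = true) (h' : certsOK n P e l' = true) : certsOK n P e (l ++ l') = true := by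
  rw [certsOK, List.all_append, Bool.and_eq_true]
  exact ⟨h, h'⟩

theorem certs_sound {n : ℕ} {P : List ℕ} {e : ℕ} {l : List (List (List ℕ) × Cert)} (h : certsOK n P e l = true)
    {T : List (List (List ℕ))} {sel : List (List ℕ) → Bool} (hc : covers T sel l = true) {cd : List (List ℕ)}
    (hcd : cd ∈ T) (hsel : sel cd = true) : HasD (hornP P 1) (e : ZMod 3) (entM n (bdgE cd)) := by
  rw [covers, beq_iff_eq] at hc
  have h1 : cd ∈ l.map Prod.fst := hc ▸ List.mem_filter.2 ⟨hcd, hsel⟩
  obtain ⟨⟨cd', c⟩, hc', rfl⟩ := List.mem_map.1 h1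
  rw [certsOK, List.all_eq_true] at h
  have h2 := h _ hc'
  simp only [Bool.and_eq_true, beq_iff_eq] at h2
  obtain ⟨⟨rfl, rfl⟩, h3⟩ := h2
  exact check_sound h3

end CfsgLib.OreSmallThree.Tab
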